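import Groth.Agent.DCK91.StalkFun
import Groth.Agent.Mod48.MapTot
import Groth.Prelude.Def_KFlatSite

/-!
The stalk functor commutes with tensor products, of modules and of complexes.
-/

set_option autoImplicit false
set_option backward.isDefEq.respectTransparency.types false
set_option linter.style.haveILetI false

noncomputable section

universe u

open CategoryTheory Limits AlgebraicGeometry TopologicalSpace Opposite MonoidalCategory TensorProduct
open Groth.Agent.QC70 Groth.Agent.Mod48

namespace Groth.Agent.DCK91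

section Presheaf

variable {T : TopCat.{u}} {R : T.Presheaf CommRingCat.{u}}
  (A M : PresheafOfModules.{u} (R ⋙ forget₂ CommRingCat RingCat)) (x : T)

/-- `theta`, linear over the local ring. -/
def thetaL : St A x ⊗[R.stalk x] St M x →ₗ[R.stalk x] St (A ⊗ M) x where
  toFun := theta A M x
  map_add' := map_add _
  map_smul' r e := by
    rw [RingHom.id_apply]
    induction e using TensorProduct.induction_on with
    | zero => simp
    | tmul a m =>
      obtain ⟨U, hU, a, m, rfl, rfl⟩ := exists_common A M x a m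
      obtain ⟨V, hV, r, rfl⟩ := R.exists_germ_eq r
      rw [TensorProduct.smul_tmul']
      have hW : x ∈ U ⊓ V := ⟨hU, hV⟩
      change pairFun A M x (_ • gm A U x hU a) (gm M U x hU m) = _ • pairFun A M x _ _
      rw [← gm_rs A (inf_le_left : U ⊓ V ≤ U) x hW a, ← gm_rs M (inf_le_left : U ⊓ V ≤ U) x hW m,
        ← R.germ_res_apply (homOfLE (inf_le_right : U ⊓ V ≤ V)) x hW r, ← gm_smul, pairFun_germ, pairFun_germ,
        ← gm_smul]
      rfl
    | add a b ha hb => rw [smul_add, map_add, map_add, smul_add, ha, hb]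

lemma surjective_theta : Function.Surjective (theta A M x) := fun e => by
  obtain ⟨U, hU, z, rfl⟩ := exists_gm (A ⊗ M) e
  exact ⟨_, theta_toStalks A M x U hU z⟩

variable {M} {M' : PresheafOfModules.{u} (R ⋙ forget₂ CommRingCat RingCat)} (g : M ⟶ M')

lemma stalkHom_theta_right (e : St A x ⊗[R.stalk x] St M x) :
    stalkHom x (A ◁ g) (theta A M x e) = theta A M' x ((stalkHom x g).lTensor _ e) := by
  induction e using TensorProduct.induction_on with
  | zero => rw [map_zero, map_zero, map_zero, map_zero]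
  | tmul a m =>
    obtain ⟨U, hx, a, m, rfl, rfl⟩ := exists_common A M x a m
    change stalkHom x (A ◁ g) (pairFun A M x _ _) = pairFun A M' x (gm A U x hx a) (stalkHom x g (gm M U x hx m))
    rw [pairFun_germ, stalkHom_gm, stalkHom_gm, pairFun_germ]
    rfl
  | add a b ha hb => rw [map_add, map_add, map_add, map_add, ha, hb]

end Presheaf

variable {X : Scheme.{u}} (x : X)

/-- Sections of a sheafification, on stalks. -/
lemma stalkHom_shfU_natural {P Q : PreM (J := Opens.grothendieckTopology X) X.sheaf} (g : P ⟶ Q)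
    (e : St (R := X.presheaf) P x) :
    stalkHom (R := X.presheaf) x (shfU Q) (stalkHom (R := X.presheaf) x g e) =
      (SP x).map (X := shf.obj P) (Y := shf.obj Q) (shf.map g) (stalkHom (R := X.presheaf) x (shfU P) e) := by
  obtain ⟨U, hU, a, rfl⟩ := exists_gm (R := X.presheaf) P e
  rw [stalkHom_gm, stalkHom_gm, stalkHom_gm]
  refine Eq.trans ?_ (DerSch.stalkFunctor_map_germ x (shf.map g) U hU _).symm
  exact congrArg _ (congr($(shfU_naturality g).app (op U) a))

lemma bijective_stalkHom_shfU (P : PreM (J := Opens.grothendieckTopology X) X.sheaf) :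
    Function.Bijective (stalkHom (R := X.presheaf) x (shfU P)) := by
  have h : Groth.Agent.Mod48.IsLocalIso (shfU P) := (isIso_shf_map_iff_isLocalIso _).1 inferInstance
  refine ⟨injective_stalkHom_of_isLocalIso (O := X.sheaf) (shfU P) h x, fun e => ?_⟩
  obtain ⟨U, hU, s, rfl⟩ := exists_gm (R := X.presheaf) (pre (shf.obj P)) e
  obtain ⟨V, i, ⟨t, ht⟩, hV⟩ := h.surj.imageSieve_mem (U := U) s x hU
  refine ⟨gm (R := X.presheaf) P V x hV t, ?_⟩
  rw [stalkHom_gm, ← gm_rs (R := X.presheaf) (pre (shf.obj P)) i.le x hV s]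
  exact congrArg _ ht

/-- The comparison `M_x ⊗ N_x → (M ⊗ N)_x`. -/
def tensorStalk (M N : X.Modules) :
    ((curriedTensor (ModuleCat.{u} (X.presheaf.stalk x))).obj ((SP x).obj M)).obj ((SP x).obj N) ⟶
      (SP x).obj ((DCoh.tensorBi.obj M).obj N) :=
  ModuleCat.ofHom
    ((stalkHom (R := X.presheaf) x (shfU (O := X.sheaf) (pre (O := X.sheaf) M ⊗ pre (O := X.sheaf) N))) ∘ₗ
      thetaL (R := X.presheaf) (pre (O := X.sheaf) M) (pre (O := X.sheaf) N) x)

instance isIso_tensorStalk (M N : X.Modules) : IsIso (tensorStalk x M N) :=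
  (ConcreteCategory.isIso_iff_bijective _).2
    ((bijective_stalkHom_shfU x _).comp ⟨injective_theta _ _ _, surjective_theta _ _ _⟩)

lemma tensorStalk_left {M M' : X.Modules} (f : M ⟶ M') (N : X.Modules) :
    ((curriedTensor (ModuleCat.{u} (X.presheaf.stalk x))).map ((SP x).map f)).app ((SP x).obj N) ≫
        tensorStalk x M' N =
      tensorStalk x M N ≫ (SP x).map ((DCoh.tensorBi.map f).app N) := by
  refine ModuleCat.hom_ext (TensorProduct.ext' fun a n => ?_)
  have hst : ∀ e : St (R := X.presheaf) (pre (O := X.sheaf) M) x,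
      stalkHom (R := X.presheaf) x ((fgt (O := X.sheaf)).map f) e = (SP x).map f e := fun e => by
    obtain ⟨U, hU, s, rfl⟩ := exists_gm (R := X.presheaf) _ e
    exact (stalkHom_gm (R := X.presheaf) x _ hU s).trans (DerSch.stalkFunctor_map_germ x f U hU s).symm
  change stalkHom (R := X.presheaf) x (shfU (O := X.sheaf) _) (theta (R := X.presheaf) _ _ x ((SP x).map f a ⊗ₜ n)) =
    (SP x).map ((DCoh.tensorBi.map f).app N) (stalkHom (R := X.presheaf) x _ (theta (R := X.presheaf) _ _ x (a ⊗ₜ n)))
  rw [← hst a]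
  refine Eq.trans (congrArg _ (stalkHom_theta (R := X.presheaf) _ x (fgt.map f) (a ⊗ₜ n)).symm) ?_
  exact stalkHom_shfU_natural x _ _

lemma tensorStalk_right (M : X.Modules) {N N' : X.Modules} (g : N ⟶ N') :
    ((curriedTensor (ModuleCat.{u} (X.presheaf.stalk x))).obj ((SP x).obj M)).map ((SP x).map g) ≫
        tensorStalk x M N' =
      tensorStalk x M N ≫ (SP x).map ((DCoh.tensorBi.obj M).map g) := by
  refine ModuleCat.hom_ext (TensorProduct.ext' fun a n => ?_)
  have hst : ∀ e : St (R := X.presheaf) (pre (O := X.sheaf) N) x,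
      stalkHom (R := X.presheaf) x ((fgt (O := X.sheaf)).map g) e = (SP x).map g e := fun e => by
    obtain ⟨U, hU, s, rfl⟩ := exists_gm (R := X.presheaf) _ e
    exact (stalkHom_gm (R := X.presheaf) x _ hU s).trans (DerSch.stalkFunctor_map_germ x g U hU s).symm
  change stalkHom (R := X.presheaf) x (shfU (O := X.sheaf) _) (theta (R := X.presheaf) _ _ x (a ⊗ₜ (SP x).map g n)) =
    (SP x).map ((DCoh.tensorBi.obj M).map g) (stalkHom (R := X.presheaf) x _ (theta (R := X.presheaf) _ _ x (a ⊗ₜ n)))
  rw [← hst n]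
  refine Eq.trans (congrArg _ (stalkHom_theta_right (R := X.presheaf) _ x (fgt.map g) (a ⊗ₜ n)).symm) ?_
  exact stalkHom_shfU_natural x _ _

/-- The stalk of the tensor product of complexes. -/
theorem stalkTotIso (F K : CochainComplex X.Modules ℤ) :
    Nonempty (((SP x).mapHomologicalComplex (ComplexShape.up ℤ)).obj F ⊗
        ((SP x).mapHomologicalComplex (ComplexShape.up ℤ)).obj K ≅
      ((SP x).mapHomologicalComplex (ComplexShape.up ℤ)).obj ((DCoh.tensorCx.obj F).obj K)) := by
  have : PreservesColimitsOfSize.{0, 0} (SP x) := preservesColimitsOfSize_shrink.{0, u, 0, u} _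
  exact nonempty_mapTotIso (DCoh.tensorBi (X := X)) (curriedTensor (ModuleCat.{u} (X.presheaf.stalk x)))
    (SP x) (SP x) (SP x) (fun M N => asIso (tensorStalk x M N))
    (fun f N => tensorStalk_left x f N) (fun M _ _ g => tensorStalk_right x M g) F K

end Groth.Agent.DCK91
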