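import Groth.Agent.DCK91.KFlatStalk
import Groth.Agent.DR39.KFlatBC

/-!
Inverse image preserves K-flat complexes.
-/

set_option autoImplicit false
set_option backward.isDefEq.respectTransparency.types false
set_option linter.style.haveILetI false

noncomputable section

universe u

open CategoryTheory Limits AlgebraicGeometry TopologicalSpace Opposite MonoidalCategory TensorProduct
open Groth.Agent.QC70

namespace Groth.Agent.DCK91

variable {X Y : Scheme.{u}} (f : X ⟶ Y) (x : X)

/-- The base change of stalks along `f`. -/
abbrev extF : ModuleCat.{u} (Y.presheaf.stalk (f x)) ⥤ ModuleCat.{u} (X.presheaf.stalk x) :=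
  ModuleCat.extendScalars.{u, u, u} (f.stalkMap x).hom

/-- The unit on stalks. -/
def pullηHom (M : Y.Modules) : (SP (f x)).obj M ⟶
    (ModuleCat.restrictScalars (f.stalkMap x).hom).obj ((SP x).obj ((Scheme.Modules.pullback f).obj M)) :=
  ModuleCat.ofHom (Y := (ModuleCat.restrictScalars (f.stalkMap x).hom).obj
    ((SP x).obj ((Scheme.Modules.pullback f).obj M))) (pullη f M x)

lemma pullηHom_natural {M N : Y.Modules} (g : M ⟶ N) :
    (SP (f x)).map g ≫ pullηHom f x N = pullηHom f x M ≫
      (ModuleCat.restrictScalars (f.stalkMap x).hom).map ((SP x).map ((Scheme.Modules.pullback f).map g)) := by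
  refine ModuleCat.hom_ext (LinearMap.ext fun e => ?_)
  obtain ⟨W, hW, t, rfl⟩ := germM_exist (M := M) e
  change pullη f N x ((SP (f x)).map g (germM M W (f x) hW t)) =
    (SP x).map ((Scheme.Modules.pullback f).map g) (pullη f M x (germM M W (f x) hW t))
  rw [SP_map_apply, stalkMapM_germ, pullη_germ, pullη_germ, SP_map_apply, stalkMapM_germ]
  exact congrArg _ (congr($((Scheme.Modules.pullbackPushforwardAdjunction f).unit.naturality g).app W t))

/-- The comparison of stalks. -/
def pullCmp (M : Y.Modules) :
    (extF f x).obj ((SP (f x)).obj M) ⟶ (SP x).obj ((Scheme.Modules.pullback f).obj M) :=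
  ((ModuleCat.extendRestrictScalarsAdj.{u, u, u} (f.stalkMap x).hom).homEquiv _ _).symm (pullηHom f x M)

instance isIso_pullCmp (M : Y.Modules) : IsIso (pullCmp f x M) := by
  letI := (f.stalkMap x).hom.toAlgebra
  letI := Module.compHom (((Scheme.Modules.pullback f).obj M).presheaf.stalk x) (f.stalkMap x).hom
  haveI : IsScalarTower (Y.presheaf.stalk (f x)) (X.presheaf.stalk x)
      (((Scheme.Modules.pullback f).obj M).presheaf.stalk x) :=
    IsScalarTower.of_algebraMap_smul fun r e => rfl
  have h := isBaseChange_pullη f M x
  refine (ConcreteCategory.isIso_iff_bijective _).2 ?_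
  suffices (fun z => pullCmp f x M z) = h.equiv by
    change Function.Bijective (fun z => pullCmp f x M z)
    rw [this]
    exact h.equiv.bijective
  funext z
  induction z using TensorProduct.induction_on with
  | zero => exact (map_zero (pullCmp f x M).hom).trans (map_zero _).symm
  | tmul s m => exact (h.equiv_tmul s m).symm
  | add a b ha hb => exact (map_add (pullCmp f x M).hom a b).trans ((congrArg₂ (· + ·) ha hb).trans (map_add h.equiv a b).symm)

/-- The stalks of inverse images, naturally. -/
def pullStalkIso : SP (f x) ⋙ extF f x ≅ Scheme.Modules.pullback f ⋙ SP x :=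
  NatIso.ofComponents (fun M => asIso (pullCmp f x M)) fun {M N} g =>
    ((ModuleCat.extendRestrictScalarsAdj.{u, u, u} (f.stalkMap x).hom).homEquiv_naturality_left_symm
      ((SP (f x)).map g) (pullηHom f x N)).symm.trans
      ((congrArg _ (pullηHom_natural f x g)).trans
        ((ModuleCat.extendRestrictScalarsAdj.{u, u, u} (f.stalkMap x).hom).homEquiv_naturality_right_symm
          (pullηHom f x M) ((SP x).map ((Scheme.Modules.pullback f).map g))))

/-- Inverse images of K-flat complexes are K-flat. -/
theorem isKFlat_pullback (K : CochainComplex Y.Modules ℤ) (hK : DCoh.IsKFlat K) :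
    DCoh.IsKFlat (((Scheme.Modules.pullback f).mapHomologicalComplex (ComplexShape.up ℤ)).obj K) := by
  refine isKFlat_of_stalk _ fun x => ?_
  have h := DR39.isKFlat_extendScalars (f.stalkMap x).hom _ (isKFlat_stalk hK (f x))
  intro M hM i
  exact (h M hM i).of_iso ((HomologicalComplex.homologyFunctor _ _ i).mapIso (tensorIso (Iso.refl M)
    (HomologicalComplex.Hom.isoOfComponents (fun j => (pullStalkIso f x).app (K.X j))
      (fun j k _ => ((pullStalkIso f x).hom.naturality (K.d j k)).symm)).symm))

end Groth.Agent.DCK91
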