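import Groth.Agent.Mod48.KFlatSymm
import Groth.Agent.Mod48.KFlatBounded

/-!
Variants of the K-flat lemmas with explicit hypotheses, for transfer to schemes.
-/

universe u

open CategoryTheory CategoryTheory.Limits

namespace Groth.Agent.DCK91

open Groth.Agent.Mod48

variable {C : Type u} [SmallCategory C] {J : GrothendieckTopology C} {O : Sheaf J CommRingCat.{u}}

lemma quasiIso_right (K : CC O) (hK : ModSite.IsKFlat K) {F F' : CC O} (φ : F ⟶ F') (h : QuasiIso φ) :
    QuasiIso (((ModSite.tensorCx O).flip.obj K).map φ) :=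
  have := h; quasiIso_tensor_right ((isKFlat_iff K).1 hK) φ

lemma quasiIso_left {P Q : CC O} (hP : ModSite.IsKFlat P) (hQ : ModSite.IsKFlat Q)
    (α : P ⟶ Q) (h : QuasiIso α) (F : CC O) : QuasiIso (((ModSite.tensorCx O).obj F).map α) :=
  have := h; quasiIso_tensor_left' hP hQ α F

lemma isKFlat_of_le (K : CC O) (b : ℤ) (h : K.IsStrictlyLE b) (hfl : ∀ i, ModSite.IsFlat (K.X i)) :
    ModSite.IsKFlat K :=
  have := h; isKFlat_of_bounded_above K b hfl

end Groth.Agent.DCK91
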