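import Groth.Agent.DCK91.PullMono
import Mathlib.RingTheory.IsTensorProduct
import Groth.Prelude.Def_FlatMod2
import Mathlib.RingTheory.Flat.Stability

/-!
The stalk of the inverse image of any module is the base change of the stalk.
-/

set_option autoImplicit false
set_option backward.isDefEq.respectTransparency.types false
set_option linter.style.haveILetI false

noncomputable section

universe u

open CategoryTheory Limits AlgebraicGeometry TopologicalSpace Opposite
open Groth.Agent.QC70

namespace Groth.Agent.DCK91

variable {X Y : Scheme.{u}} (f : X ⟶ Y) (M : Y.Modules) (x : X)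

lemma skyStalk_germ (E : Type u) [AddCommGroup E] [Module (X.presheaf.stalk x) E]
    {U : X.Opens} (hx : x ∈ U) (s : Γ(skyE x E, U)) :
    skyStalk x E (germM (skyE x E) U x hx s) = valAt x E hx s := by
  apply (skyStalk x E).symm.injective
  rw [LinearEquiv.symm_apply_apply]
  change germM (skyE x E) U x hx s = germM (skyE x E) ⊤ x trivial (show SkyS x E ⊤ from fun _ _ => valAt x E hx s)
  rw [← germM_res (le_top : U ≤ ⊤) hx]
  exact congrArg _ ((bijective_valAt hx).1 rfl)

/-- The map from the stalk of a direct image to the stalk. -/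
def pushStalk (N : X.Modules) :
    ((Scheme.Modules.pushforward f).obj N).presheaf.stalk (f x) →+ N.presheaf.stalk x :=
  (TopCat.Presheaf.stalkPushforward _ f.base N.presheaf x).hom

lemma pushStalk_germ (N : X.Modules) {W : Y.Opens} (hW : f x ∈ W)
    (t : Γ((Scheme.Modules.pushforward f).obj N, W)) :
    pushStalk f x N (germM ((Scheme.Modules.pushforward f).obj N) W (f x) hW t) =
      germM N (f ⁻¹ᵁ W) x hW t :=
  congrArg (fun g => (AddCommGrpCat.Hom.hom g) t)
    (TopCat.Presheaf.stalkPushforward_germ _ f.base N.presheaf W x hW)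

lemma pushStalk_smul (N : X.Modules) (r : Y.presheaf.stalk (f x))
    (e : ((Scheme.Modules.pushforward f).obj N).presheaf.stalk (f x)) :
    pushStalk f x N (r • e) = (f.stalkMap x).hom r • pushStalk f x N e := by
  obtain ⟨U, hU, s, rfl⟩ := germM_exist e
  obtain ⟨V, hV, r, rfl⟩ := TopCat.Presheaf.exists_germ_eq Y.presheaf r
  have hW : f x ∈ U ⊓ V := ⟨hU, hV⟩
  rw [← germM_res (inf_le_left : U ⊓ V ≤ U) hW s, ← germ_resO (inf_le_right : U ⊓ V ≤ V) hW r,
    ← germM_smul, pushStalk_germ, pushStalk_germ, QCqs72.pushforward_smul, germM_smul]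
  exact congrArg (· • _) (Scheme.Hom.germ_stalkMap_apply f (U ⊓ V) x hW _).symm

/-- The unit, on stalks. -/
def pullη :
    letI := (f.stalkMap x).hom.toAlgebra
    letI := Module.compHom (((Scheme.Modules.pullback f).obj M).presheaf.stalk x) (f.stalkMap x).hom
    M.presheaf.stalk (f x) →ₗ[Y.presheaf.stalk (f x)] ((Scheme.Modules.pullback f).obj M).presheaf.stalk x :=
  letI := (f.stalkMap x).hom.toAlgebra
  letI := Module.compHom (((Scheme.Modules.pullback f).obj M).presheaf.stalk x) (f.stalkMap x).hom
  { toFun := fun e => pushStalk f x ((Scheme.Modules.pullback f).obj M)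
      (stalkMapM ((Scheme.Modules.pullbackPushforwardAdjunction f).unit.app M) (f x) e)
    map_add' := fun a b => (congrArg _ ((stalkLinear _ (f x)).map_add a b)).trans (map_add _ _ _)
    map_smul' := fun r e => (congrArg (pushStalk f x _) ((stalkLinear _ (f x)).map_smul r e)).trans
      (pushStalk_smul f x _ r _) }

lemma pullη_germ {W : Y.Opens} (hW : f x ∈ W) (t : Γ(M, W)) :
    pullη f M x (germM M W (f x) hW t) = germM ((Scheme.Modules.pullback f).obj M) (f ⁻¹ᵁ W) x hW
      (((Scheme.Modules.pullbackPushforwardAdjunction f).unit.app M).app W t) :=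
  (congrArg (pushStalk f x _) (stalkMapM_germ _ hW t)).trans (pushStalk_germ f x _ hW _)

/-- The stalk of the inverse image is the base change of the stalk. -/
theorem isBaseChange_pullη :
    letI := (f.stalkMap x).hom.toAlgebra
    letI := Module.compHom (((Scheme.Modules.pullback f).obj M).presheaf.stalk x) (f.stalkMap x).hom
    haveI : IsScalarTower (Y.presheaf.stalk (f x)) (X.presheaf.stalk x)
        (((Scheme.Modules.pullback f).obj M).presheaf.stalk x) :=
      IsScalarTower.of_algebraMap_smul fun r e => rfl
    IsBaseChange (X.presheaf.stalk x) (pullη f M x) := by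
  letI := (f.stalkMap x).hom.toAlgebra
  letI := Module.compHom (((Scheme.Modules.pullback f).obj M).presheaf.stalk x) (f.stalkMap x).hom
  haveI : IsScalarTower (Y.presheaf.stalk (f x)) (X.presheaf.stalk x)
      (((Scheme.Modules.pullback f).obj M).presheaf.stalk x) :=
    IsScalarTower.of_algebraMap_smul fun r e => rfl
  refine IsBaseChange.of_lift_unique.{u, u, u} _ fun Q _ _ _ _ g => ?_
  letI : AddCommGroup Q := Module.addCommMonoidToAddCommGroup (X.presheaf.stalk x)
  let N := (Scheme.Modules.pullback f).obj M
  let adj := Scheme.Modules.pullbackPushforwardAdjunction f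
  have hsm : ∀ (r : Y.presheaf.stalk (f x)) (q : Q), r • q = (f.stalkMap x).hom r • q := fun r q =>
    (algebraMap_smul (X.presheaf.stalk x) r q).symm
  let l : (pushSky x Q f).presheaf.stalk (f x) →ₗ[Y.presheaf.stalk (f x)] Q :=
    { toFun := pushVal x Q f
      map_add' := pushVal_add x Q f
      map_smul' := fun r a => (pushVal_smul x Q f r a).trans (hsm r _).symm }
  let le := LinearEquiv.ofBijective l (bijective_pushVal x Q f)
  obtain ⟨gh, hgh⟩ := (isSky_pushSky x Q f).exists_hom (le.symm.toLinearMap ∘ₗ g)
  let G := (adj.homEquiv _ _).symm gh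
  have key : ∀ (G' : N ⟶ skyE x Q) (W : Y.Opens) (hW : f x ∈ W) (t : Γ(M, W)),
      skyStalk x Q (stalkLinear G' x (pullη f M x (germM M W (f x) hW t))) =
        valAt x Q (U := f ⁻¹ᵁ W) hW ((adj.homEquiv _ _ G').app W t) := by
    intro G' W hW t
    rw [pullη_germ]
    change skyStalk x Q (stalkMapM G' x (germM N (f ⁻¹ᵁ W) x hW _)) = _
    rw [stalkMapM_germ, skyStalk_germ, Adjunction.homEquiv_unit]
    rfl
  refine ⟨(skyStalk x Q).toLinearMap ∘ₗ stalkLinear G x, ?_, fun g' hg' => ?_⟩
  · refine LinearMap.ext fun e => ?_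
    obtain ⟨W, hW, t, rfl⟩ := germM_exist e
    refine (key G W hW t).trans ?_
    rw [Equiv.apply_symm_apply, ← pushVal_germ x Q f hW, hgh]
    exact le.apply_symm_apply _
  · obtain ⟨G', hG'⟩ := (isSky_skyE x Q).exists_hom ((skyStalk x Q).symm.toLinearMap ∘ₗ g')
    have hG'' : ∀ z, skyStalk x Q (stalkLinear G' x z) = g' z := fun z => by
      obtain ⟨U, hU, s, rfl⟩ := germM_exist z
      change skyStalk x Q (stalkMapM G' x _) = _
      rw [stalkMapM_germ, hG']
      exact (skyStalk x Q).apply_symm_apply _
    have hGG : G' = G := by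
      apply (adj.homEquiv _ _).injective
      rw [Equiv.apply_symm_apply]
      refine Scheme.Modules.hom_ext _ _ fun W => ?_
      ext t
      by_cases hW : f x ∈ W
      · refine (bijective_valAt (U := f ⁻¹ᵁ W) hW).1 ?_
        rw [← key G' W hW t, hG'', ← pushVal_germ x Q f hW (gh.app W t), hgh]
        exact (LinearMap.congr_fun hg' _).trans (le.apply_symm_apply _).symm
      · exact ((isSky_pushSky x Q f).subsingleton W hW).elim _ _
    refine LinearMap.ext fun z => ?_
    rw [← hG'' z, hGG]
    rfl

/-- Inverse images of flat modules are flat. -/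
theorem isFlat_pullback (hM : FlatMod.IsFlat M) : FlatMod.IsFlat ((Scheme.Modules.pullback f).obj M) := by
  intro x
  letI := (f.stalkMap x).hom.toAlgebra
  letI := Module.compHom (((Scheme.Modules.pullback f).obj M).presheaf.stalk x) (f.stalkMap x).hom
  haveI : IsScalarTower (Y.presheaf.stalk (f x)) (X.presheaf.stalk x)
      (((Scheme.Modules.pullback f).obj M).presheaf.stalk x) :=
    IsScalarTower.of_algebraMap_smul fun r e => rfl
  haveI : Module.Flat (Y.presheaf.stalk (f x)) (M.presheaf.stalk (f x)) := hM (f x)
  exact Module.Flat.of_linearEquiv (isBaseChange_pullη f M x).equiv.symm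

end Groth.Agent.DCK91
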