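import Groth.Agent.DCK91.PullFlat
import Groth.Agent.DCK91.PullStalk
import Groth.Agent.DCK91.KFlat
import Groth.Prelude.Def_DTor2

/-!
Values of the derived tensor product and inverse image on flat complexes; flat amplitude gives tor amplitude.
-/

set_option autoImplicit false
set_option linter.style.haveILetI false

noncomputable section

universe u

open CategoryTheory Limits AlgebraicGeometry
open Groth.Agent.Mod48
attribute [local instance] HasDerivedCategory.standard

namespace Groth.Agent.DCK91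

variable {X Y : Scheme.{u}}

/-- A bounded above complex of flat modules is K-flat with flat terms. -/
lemma kff_of_le (E : CochainComplex X.Modules ℤ) (b : ℤ) (hb : ∀ i, b < i → IsZero (E.X i))
    (hE : ∀ i, FlatMod.IsFlat (E.X i)) :
    ModSite.IsKFlat (O := X.sheaf) E ∧ ∀ i, ModSite.IsFlat (O := X.sheaf) (E.X i) := by
  refine ⟨isKFlat_of_le (O := X.sheaf) E b ?_ fun i => isFlat_of_flatMod _ (hE i),
    fun i => isFlat_of_flatMod _ (hE i)⟩
  exact (CochainComplex.isStrictlyLE_iff (C := X.Modules) E b).2 fun i hi => hb i hi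

/-- The value of the derived tensor product. -/
def ltmIso (M : X.Modules) [DCoh.HasLTensorMod M] (E : CochainComplex X.Modules ℤ)
    (hK : ModSite.IsKFlat (O := X.sheaf) E) (hf : ∀ i, ModSite.IsFlat (O := X.sheaf) (E.X i)) :
    (DCoh.LTensorMod M).obj (DCoh.toD X E) ≅
      DCoh.toD X (((DCoh.tensorRightMod M).mapHomologicalComplex (ComplexShape.up ℤ)).obj E) :=
  haveI : IsIso (((DCoh.tensorModKh M).totalLeftDerivedCounit DerivedCategory.Qh
      (HomotopyCategory.quasiIso X.Modules (ComplexShape.up ℤ))).app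
        ((HomotopyCategory.quotient X.Modules (ComplexShape.up ℤ)).obj E)) :=
    have h : (DCoh.LTensorMod M).IsLeftDerivedFunctor ((DCoh.tensorModKh M).totalLeftDerivedCounit DerivedCategory.Qh
      (HomotopyCategory.quasiIso X.Modules (ComplexShape.up ℤ))) (HomotopyCategory.quasiIso X.Modules (ComplexShape.up ℤ)) :=
      inferInstance
    isIso_counit_KFF (O := X.sheaf) (tenM M) (preservesFlatSES_tenM M) _ _ h E hK hf
  (DCoh.LTensorMod M).mapIso ((DerivedCategory.quotientCompQhIso X.Modules).app E).symm ≪≫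
    asIso (((DCoh.tensorModKh M).totalLeftDerivedCounit DerivedCategory.Qh
      (HomotopyCategory.quasiIso X.Modules (ComplexShape.up ℤ))).app
        ((HomotopyCategory.quotient X.Modules (ComplexShape.up ℤ)).obj E)) ≪≫
    (DerivedCategory.quotientCompQhIso X.Modules).app _

/-- The value of the derived inverse image. -/
def lpullIso (f : X ⟶ Y) [DCoh.HasLpull f] (E : CochainComplex Y.Modules ℤ)
    (hK : ModSite.IsKFlat (O := Y.sheaf) E) (hf : ∀ i, ModSite.IsFlat (O := Y.sheaf) (E.X i)) :
    (DCoh.Lpull f).obj (DCoh.toD Y E) ≅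
      DCoh.toD X (((Scheme.Modules.pullback f).mapHomologicalComplex (ComplexShape.up ℤ)).obj E) :=
  haveI : IsIso (((DCoh.pullKh f).totalLeftDerivedCounit DerivedCategory.Qh
      (HomotopyCategory.quasiIso Y.Modules (ComplexShape.up ℤ))).app
        ((HomotopyCategory.quotient Y.Modules (ComplexShape.up ℤ)).obj E)) :=
    have h : (DCoh.Lpull f).IsLeftDerivedFunctor ((DCoh.pullKh f).totalLeftDerivedCounit DerivedCategory.Qh
      (HomotopyCategory.quasiIso Y.Modules (ComplexShape.up ℤ))) (HomotopyCategory.quasiIso Y.Modules (ComplexShape.up ℤ)) :=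
      inferInstance
    isIso_counit_KFF (O := Y.sheaf) (pullM f) (preservesFlatSES_pullback f) _ _ h E hK hf
  (DCoh.Lpull f).mapIso ((DerivedCategory.quotientCompQhIso Y.Modules).app E).symm ≪≫
    asIso (((DCoh.pullKh f).totalLeftDerivedCounit DerivedCategory.Qh
      (HomotopyCategory.quasiIso Y.Modules (ComplexShape.up ℤ))).app
        ((HomotopyCategory.quotient Y.Modules (ComplexShape.up ℤ)).obj E)) ≪≫
    (DerivedCategory.quotientCompQhIso X.Modules).app _

/-- Cohomology in the derived category vanishes where the representing complex does. -/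
lemma isZero_HD_toD (E : CochainComplex X.Modules ℤ) (i : ℤ) (h : IsZero (E.X i)) :
    IsZero (DCoh.HD (DCoh.toD X E) i) :=
  ((HomologicalComplex.exactAt_iff_isZero_homology _ i).1 (ShortComplex.exact_of_isZero_X₂ _ h)).of_iso
    ((DerivedCategory.homologyFunctorFactors X.Modules i).app E)

/-- Flat amplitude implies tor amplitude. -/
theorem torAmp_of_flatAmp {a b : ℤ} {K : DCoh.D X} (h : DCoh.HasFlatAmplitudeIn a b K) :
    DCoh.HasTorAmplitudeIn a b K := by
  obtain ⟨E, hE, hfl, ⟨e⟩⟩ := h
  obtain ⟨hK, hf⟩ := kff_of_le E b (fun i hi => hE i (Or.inr hi)) hfl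
  intro F _ i hi
  exact (isZero_HD_toD _ i ((DCoh.tensorRightMod F).map_isZero (hE i hi))).of_iso
    ((DerivedCategory.homologyFunctor X.Modules i).mapIso
      ((DCoh.LTensorMod F).mapIso e.symm ≪≫ ltmIso F E hK hf))

/-- Flat amplitude is preserved by derived inverse image. -/
theorem flatAmp_Lpull (f : X ⟶ Y) [DCoh.HasLpull f] {a b : ℤ} {K : DCoh.D Y}
    (h : DCoh.HasFlatAmplitudeIn a b K) : DCoh.HasFlatAmplitudeIn a b ((DCoh.Lpull f).obj K) := by
  obtain ⟨E, hE, hfl, ⟨e⟩⟩ := h
  obtain ⟨hK, hf⟩ := kff_of_le E b (fun i hi => hE i (Or.inr hi)) hfl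
  exact ⟨_, fun i hi => (Scheme.Modules.pullback f).map_isZero (hE i hi),
    fun i => isFlat_pullback f _ (hfl i), ⟨(lpullIso f E hK hf).symm ≪≫ (DCoh.Lpull f).mapIso e⟩⟩

/-- Tor amplitude passes to retracts. -/
theorem torAmp_of_retract {a b : ℤ} {K L : DCoh.D X} (r : Retract K L) (h : DCoh.HasTorAmplitudeIn a b L) :
    DCoh.HasTorAmplitudeIn a b K := by
  intro F _ i hi
  let r' := r.map (DCoh.LTensorMod F ⋙ DerivedCategory.homologyFunctor X.Modules i)
  rw [IsZero.iff_id_eq_zero]
  exact r'.retract.symm.trans (by rw [(h F i hi).eq_of_tgt r'.i 0, zero_comp])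

end Groth.Agent.DCK91
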