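import Groth.Agent.DCK91.LeftDerComp
import Groth.Agent.DCK91.Amp
import Groth.Agent.DCK91.KFlatPull

/-!
The derived inverse image of a composition.
-/

set_option autoImplicit false
set_option linter.style.haveILetI false

noncomputable section

universe u

open CategoryTheory Limits AlgebraicGeometry
open Groth.Agent.Mod48
attribute [local instance] HasDerivedCategory.standard

namespace Groth.Agent.DCK91

variable {X Y Z : Scheme.{u}}

/-- K-flat complexes with flat terms, in the homotopy category of a scheme. -/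
def KFFh (X : Scheme.{u}) : ObjectProperty (HomotopyCategory X.Modules (ComplexShape.up ℤ)) :=
  KFF X.sheaf

lemma hasRes_KFFh (X : Scheme.{u}) :
    HasRes (HomotopyCategory.quasiIso X.Modules (ComplexShape.up ℤ)) (KFFh X) :=
  hasRes_KFF (O := X.sheaf)

/-- The counit of the derived inverse image is invertible on K-flat complexes with flat terms. -/
lemma isIso_pullCounit (f : X ⟶ Y) [DCoh.HasLpull f] (E : HomotopyCategory Y.Modules (ComplexShape.up ℤ))
    (hE : KFFh Y E) : IsIso (((DCoh.pullKh f).totalLeftDerivedCounit DerivedCategory.Qh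
      (HomotopyCategory.quasiIso Y.Modules (ComplexShape.up ℤ))).app E) := by
  obtain ⟨K, rfl, hK, hf⟩ := hE
  have h : (DCoh.Lpull f).IsLeftDerivedFunctor ((DCoh.pullKh f).totalLeftDerivedCounit DerivedCategory.Qh
      (HomotopyCategory.quasiIso Y.Modules (ComplexShape.up ℤ))) (HomotopyCategory.quasiIso Y.Modules (ComplexShape.up ℤ)) :=
    inferInstance
  exact isIso_counit_KFF (O := Y.sheaf) (pullM f) (preservesFlatSES_pullback f) _ _ h K hK hf

/-- The inverse image preserves K-flat complexes with flat terms. -/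
lemma KFFh_map (f : X ⟶ Y) (E : HomotopyCategory Y.Modules (ComplexShape.up ℤ)) (hE : KFFh Y E) :
    KFFh X (((Scheme.Modules.pullback f).mapHomotopyCategory (ComplexShape.up ℤ)).obj E) := by
  obtain ⟨K, rfl, hK, hf⟩ := hE
  exact ⟨((Scheme.Modules.pullback f).mapHomologicalComplex (ComplexShape.up ℤ)).obj K, rfl,
    isKFlat_pullback f K hK, fun i => isFlat_of_flatMod _ (isFlat_pullback f _ (flatMod_of_isFlat _ (hf i)))⟩

/-- `Lf^* Lg^* ≅ L(gf)^*`. -/
theorem Lpull_comp (f : X ⟶ Y) (g : Y ⟶ Z) [DCoh.HasLpull f] [DCoh.HasLpull g] [DCoh.HasLpull (f ≫ g)] :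
    Nonempty (DCoh.Lpull g ⋙ DCoh.Lpull f ≅ DCoh.Lpull (f ≫ g)) := by
  have : (Scheme.Modules.pullback (f ≫ g)).Additive := inferInstance
  exact nonempty_comp (W := HomotopyCategory.quasiIso Z.Modules (ComplexShape.up ℤ))
    DerivedCategory.Qh DerivedCategory.Qh DerivedCategory.Qh (hasRes_KFFh Z)
    (Functor.mapHomotopyCategoryCompIso (Scheme.Modules.pullbackComp f g) (ComplexShape.up ℤ))
    (DCoh.Lpull g) ((DCoh.pullKh g).totalLeftDerivedCounit DerivedCategory.Qh _)
    (DCoh.Lpull f) ((DCoh.pullKh f).totalLeftDerivedCounit DerivedCategory.Qh _)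
    (DCoh.Lpull (f ≫ g)) ((DCoh.pullKh (f ≫ g)).totalLeftDerivedCounit DerivedCategory.Qh _)
    (isIso_pullCounit g) (fun E hE => isIso_pullCounit f _ (KFFh_map g E hE)) (isIso_pullCounit (f ≫ g))

end Groth.Agent.DCK91
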