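import Groth.Agent.DCK91.Flat
import Groth.Agent.Mod48.FreeResolution
import Mathlib.CategoryTheory.Abelian.Refinements

/-!
A cokernel of a differential of a complex of flat modules is flat when tensoring keeps exactness to
the left of it; bounded above free resolutions have flat terms.
-/

universe u

open CategoryTheory CategoryTheory.Limits Opposite
open scoped ZeroObject

namespace Groth.Agent.DCK91

open Groth.Agent.Mod48

variable {C : Type u} [SmallCategory C] {J : GrothendieckTopology C} {O : Sheaf J CommRingCat.{u}}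

lemma isFlat_of_isFreeSum {X : ModSite.Mod O} (h : IsFreeSum X) : ModSite.IsFlat X := by
  obtain ⟨ι, U, ⟨e⟩⟩ := h
  exact isFlat_of_iso e.symm (isFlat_of_isColimit_cofan _ (fun j => isFlat_freeOn (U j)) _ (coproductIsCoproduct _))

section Chase

variable {V : Type*} [Category* V] [Abelian V]

/-- The diagram chase. -/
lemma mono_of_chase {Pb Pc Qa Qb Qc Ra Rb Rc Ta Tb : V} (p : Pb ⟶ Pc) (dPb : Pb ⟶ Qb) (dPc : Pc ⟶ Qc)
    (k₀ : Qa ⟶ Qb) (q₀ : Qb ⟶ Qc) (k₁ : Ra ⟶ Rb) (q₁ : Rb ⟶ Rc)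
    (dA : Qa ⟶ Ra) (dB : Qb ⟶ Rb) (dC : Qc ⟶ Rc) (πA : Ra ⟶ Ta) (πB : Rb ⟶ Tb) (kT : Ta ⟶ Tb)
    [Epi p] [Mono k₁] [Epi πA]
    (z0 : dA ≫ πA = 0) (z1 : k₁ ≫ q₁ = 0) (z2 : dPb ≫ dB = 0)
    (c1 : dPb ≫ q₀ = p ≫ dPc) (c2 : dA ≫ k₁ = k₀ ≫ dB) (c3 : dB ≫ q₁ = q₀ ≫ dC) (c4 : πA ≫ kT = k₁ ≫ πB)
    (zB : dB ≫ πB = 0) (hB : (ShortComplex.mk dB πB zB).Exact)
    (zC : dPc ≫ dC = 0) (hC : (ShortComplex.mk dPc dC zC).Exact)
    (zQ : k₀ ≫ q₀ = 0) (hQ : (ShortComplex.mk k₀ q₀ zQ).Exact) : Mono kT := by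
  refine Preadditive.mono_of_cancel_zero _ fun {S} x hx => ?_
  obtain ⟨S₁, e₁, he₁, y, hy⟩ := surjective_up_to_refinements_of_epi πA x
  obtain ⟨S₂, e₂, he₂, z, hz⟩ : ∃ (S₂ : V) (e₂ : S₂ ⟶ S₁) (_ : Epi e₂) (z : S₂ ⟶ Qb),
      e₂ ≫ y ≫ k₁ = z ≫ dB :=
    hB.exact_up_to_refinements (y ≫ k₁) (show (y ≫ k₁) ≫ πB = 0 by
      rw [Category.assoc, ← c4, ← Category.assoc, ← hy, Category.assoc, hx, comp_zero])
  obtain ⟨S₃, e₃, he₃, w, hw⟩ : ∃ (S₃ : V) (e₃ : S₃ ⟶ S₂) (_ : Epi e₃) (w : S₃ ⟶ Pc),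
      e₃ ≫ z ≫ q₀ = w ≫ dPc :=
    hC.exact_up_to_refinements (z ≫ q₀) (show (z ≫ q₀) ≫ dC = 0 by
      rw [Category.assoc, ← c3, ← Category.assoc, ← hz, Category.assoc, Category.assoc, z1, comp_zero, comp_zero])
  obtain ⟨S₄, e₄, he₄, w', hw'⟩ := surjective_up_to_refinements_of_epi p w
  obtain ⟨S₅, e₅, he₅, v, hv⟩ : ∃ (S₅ : V) (e₅ : S₅ ⟶ S₄) (_ : Epi e₅) (v : S₅ ⟶ Qa),
      e₅ ≫ (e₄ ≫ e₃ ≫ z - w' ≫ dPb) = v ≫ k₀ :=
    hQ.exact_up_to_refinements _ (show (e₄ ≫ e₃ ≫ z - w' ≫ dPb) ≫ q₀ = 0 by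
      rw [Preadditive.sub_comp, Category.assoc, Category.assoc, Category.assoc, hw, c1, ← Category.assoc w',
        ← hw', Category.assoc, sub_self])
  have hy' : (e₅ ≫ e₄ ≫ e₃ ≫ e₂) ≫ y = v ≫ dA := by
    rw [← cancel_mono k₁]
    simp only [Category.assoc]
    rw [c2, ← Category.assoc v, ← hv, hz]
    simp [Preadditive.comp_sub, Preadditive.sub_comp, z2]
  have h0 : (e₅ ≫ e₄ ≫ e₃ ≫ e₂ ≫ e₁) ≫ x = 0 := by
    have : (e₅ ≫ e₄ ≫ e₃ ≫ e₂ ≫ e₁) ≫ x = ((e₅ ≫ e₄ ≫ e₃ ≫ e₂) ≫ y) ≫ πA := by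
      simp only [Category.assoc]; rw [hy]
    rw [this, hy', Category.assoc, z0, comp_zero]
  rwa [← cancel_epi (e₅ ≫ e₄ ≫ e₃ ≫ e₂ ≫ e₁), comp_zero]

/-- The chase for natural transformations between three functors. -/
lemma mono_app_of_exact {U : Type*} [Category* U] [Abelian U] (RA RB RC : U ⥤ V) [RA.Additive] [RB.Additive]
    [RC.Additive] (τ : RA ⟶ RB) (σ : RB ⟶ RC) {P Q R T : U} (d₁ : P ⟶ Q) (d₂ : Q ⟶ R) (π : R ⟶ T)
    [Epi (RA.map π)] [Epi (σ.app P)] [Mono (τ.app R)] (hd : d₁ ≫ d₂ = 0) (hπ : d₂ ≫ π = 0)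
    (zR : τ.app R ≫ σ.app R = 0) (zQ : τ.app Q ≫ σ.app Q = 0)
    (hQ : (ShortComplex.mk (τ.app Q) (σ.app Q) zQ).Exact)
    (zB : RB.map d₂ ≫ RB.map π = 0) (hB : (ShortComplex.mk (RB.map d₂) (RB.map π) zB).Exact)
    (zC : RC.map d₁ ≫ RC.map d₂ = 0) (hC : (ShortComplex.mk (RC.map d₁) (RC.map d₂) zC).Exact) :
    Mono (τ.app T) :=
  mono_of_chase (σ.app P) (RB.map d₁) (RC.map d₁) (τ.app Q) (σ.app Q) (τ.app R) (σ.app R)
    (RA.map d₂) (RB.map d₂) (RC.map d₂) (RA.map π) (RB.map π) (τ.app T)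
    (by rw [← RA.map_comp, hπ, RA.map_zero]) zR (by rw [← RB.map_comp, hd, RB.map_zero])
    (σ.naturality d₁) (τ.naturality d₂) (σ.naturality d₂) (τ.naturality π) zB hB zC hC zQ hQ

lemma exact_map_d {U : Type*} [Category* U] [Abelian U] (G : U ⥤ V) [G.Additive] (E : CochainComplex U ℤ)
    (i j k : ℤ) (hij : i + 1 = j) (hjk : j + 1 = k)
    (h : ((G.mapHomologicalComplex (ComplexShape.up ℤ)).obj E).ExactAt j)
    (z : G.map (E.d i j) ≫ G.map (E.d j k) = 0) :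
    (ShortComplex.mk (G.map (E.d i j)) (G.map (E.d j k)) z).Exact :=
  (HomologicalComplex.exactAt_iff' _ _ _ _ ((ComplexShape.up ℤ).prev_eq' hij)
    ((ComplexShape.up ℤ).next_eq' hjk)).1 h

end Chase

lemma epi_tL_map {A B : ModSite.Mod O} (F : ModSite.Mod O) (q : A ⟶ B) [Epi q] : Epi ((tL F).map q) :=
  inferInstance

lemma epi_tR_map {A B : ModSite.Mod O} (F : ModSite.Mod O) (q : A ⟶ B) [Epi q] : Epi ((tR F).map q) :=
  inferInstance

lemma map_d_comp (G : ModSite.Mod O ⥤ ModSite.Mod O) [G.Additive] (E : CC O) (i j k : ℤ) :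
    G.map (E.d i j) ≫ G.map (E.d j k) = 0 := by
  rw [← G.map_comp, HomologicalComplex.d_comp_d, G.map_zero]

lemma map_comp_zero (G : ModSite.Mod O ⥤ ModSite.Mod O) [G.Additive] {U V W : ModSite.Mod O} (f : U ⟶ V) (g : V ⟶ W)
    (h : f ≫ g = 0) : G.map f ≫ G.map g = 0 := by
  rw [← G.map_comp, h, G.map_zero]

lemma tRMap_app {A B : ModSite.Mod O} (k : A ⟶ B) (M : ModSite.Mod O) : (tRMap k).app M = (tL M).map k := rfl

lemma exact_map_mk (G : ModSite.Mod O ⥤ ModSite.Mod O) [G.Additive] [PreservesFiniteColimits G]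
    {U V W : ModSite.Mod O} (f : U ⟶ V) (g : V ⟶ W) [Epi g] (h : f ≫ g = 0)
    (hS : (ShortComplex.mk f g h).Exact) : (ShortComplex.mk (G.map f) (G.map g) (map_comp_zero G f g h)).Exact :=
  ShortComplex.Exact.map_of_epi_of_preservesCokernel hS G (inferInstanceAs (Epi g)) inferInstance

lemma epi_tRMap_app {A B : ModSite.Mod O} (q : A ⟶ B) [Epi q] (M : ModSite.Mod O) : Epi ((tRMap q).app M) :=
  epi_tL_map M q

lemma mono_tRMap_app {M : ModSite.Mod O} (hM : ModSite.IsFlat M) {A B : ModSite.Mod O} (k : A ⟶ B) [Mono k] :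
    Mono ((tRMap k).app M) := mono_tL_map_of_isFlat hM k

lemma tRMap_comp_zero {A B D : ModSite.Mod O} (k : A ⟶ B) (q : B ⟶ D) (h : k ≫ q = 0) (M : ModSite.Mod O) :
    (tRMap k).app M ≫ (tRMap q).app M = 0 := map_comp_zero (tL M) k q h

lemma exact_tRMap_app {A B D : ModSite.Mod O} (k : A ⟶ B) (q : B ⟶ D) [Epi q] (h : k ≫ q = 0)
    (hS : (ShortComplex.mk k q h).Exact) (M : ModSite.Mod O) :
    (ShortComplex.mk ((tRMap k).app M) ((tRMap q).app M) (tRMap_comp_zero k q h M)).Exact :=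
  exact_map_mk (tL M) k q h hS

/-- The cokernel is flat if tensoring keeps exactness one step to the left. -/
theorem isFlat_cokernel_d (E : CC O) (hf : ∀ i, ModSite.IsFlat (E.X i)) (a : ℤ)
    (hex : ∀ F : ModSite.Mod O, (((tR F).mapHomologicalComplex (ComplexShape.up ℤ)).obj E).ExactAt (a - 1)) :
    ModSite.IsFlat (cokernel (E.d (a - 1) a)) := by
  rw [isFlat_iff_mono]
  intro A B k _
  suffices hm : Mono ((tRMap k).app (cokernel (E.d (a - 1) a))) by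
    have : Mono ((tL (cokernel (E.d (a - 1) a))).map k) := hm
    rw [← NatIso.naturality_1 (tensSymm (cokernel (E.d (a - 1) a))) k]
    infer_instance
  have := epi_tR_map A (cokernel.π (E.d (a - 1) a))
  have := epi_tRMap_app (cokernel.π k) (E.X (a - 2))
  have := mono_tRMap_app (hf a) k
  exact mono_app_of_exact (tR A) (tR B) (tR (cokernel k)) (tRMap k) (tRMap (cokernel.π k))
    (E.d (a - 2) (a - 1)) (E.d (a - 1) a) (cokernel.π _) (E.d_comp_d _ _ _) (cokernel.condition _)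
    (tRMap_comp_zero k _ (cokernel.condition k) _) (tRMap_comp_zero k _ (cokernel.condition k) _)
    (exact_tRMap_app k _ (cokernel.condition k) (ShortComplex.exact_of_g_is_cokernel _ (cokernelIsCokernel _)) _)
    _ (exact_map_mk (tR B) (E.d (a - 1) a) (cokernel.π _) (cokernel.condition _)
      (ShortComplex.exact_of_g_is_cokernel _ (cokernelIsCokernel _)))
    _ (exact_map_d (tR (cokernel k)) E (a - 2) (a - 1) a (by omega) (by omega) (hex _) (map_d_comp _ _ _ _ _))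

/-- A complex vanishing from `b` on has a resolution by flat modules vanishing above `b`. -/
theorem exists_flat_resolution_le (G : CC O) (b : ℤ) (hG : ∀ i, b < i → IsZero (G.X i)) :
    ∃ (P : CC O) (c : P ⟶ G), (∀ i, b + 1 < i → IsZero (P.X i)) ∧ (∀ i, ModSite.IsFlat (P.X i)) ∧ QuasiIso c := by
  obtain ⟨P, j, c, -, hP, hj, hc, -⟩ := exists_free_factor G (b + 1)
    (fun i hi => hG i (by omega)) (0 : (0 : CC O) ⟶ G) (fun i _ => (HomologicalComplex.eval _ _ i).map_isZero (isZero_zero _))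
  exact ⟨P, c, hP, fun i => isFlat_of_isFreeSum ((hj i).isFreeSum
    (isFreeSum_of_isZero ((HomologicalComplex.eval _ _ i).map_isZero (isZero_zero _)))), hc⟩

end Groth.Agent.DCK91
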