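import Groth.Agent.DCK91.Amp
import Groth.Agent.DCK91.Coker

/-!
Tor amplitude and flat amplitude agree.
-/

set_option autoImplicit false
set_option linter.style.haveILetI false

noncomputable section

universe u

open CategoryTheory Limits AlgebraicGeometry MonoidalCategory
open Groth.Agent.Mod48
open scoped ZeroObject
attribute [local instance] HasDerivedCategory.standard

namespace Groth.Agent.DCK91

section Abstract

variable {A : Type*} [Category* A] [Abelian A]

/-- The top homology of a complex vanishing in the next degree is a cokernel. -/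
def cokerIsoHomology (P : CochainComplex A ℤ) (hz : IsZero (P.X 1)) :
    cokernel (P.d ((0 : ℤ) - 1) 0) ≅ P.homology 0 :=
  ((P.opcyclesIsCokernel (0 - 1) 0 ((ComplexShape.up ℤ).prev_eq' (by simp))).coconePointUniqueUpToIso
    (cokernelIsCokernel _)).symm ≪≫
    (P.isoHomologyι 0 1 ((ComplexShape.up ℤ).next_eq' (by simp)) (hz.eq_of_tgt _ _)).symm

/-- The homology of a resolution of an object. -/
def homologyIsoOfRes {P : CochainComplex A ℤ} {F : A}
    (c : P ⟶ (HomologicalComplex.single A (ComplexShape.up ℤ) 0).obj F) (hc : QuasiIso c) : P.homology 0 ≅ F :=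
  haveI := hc.quasiIsoAt 0
  isoOfQuasiIsoAt c 0 ≪≫ HomologicalComplex.singleObjHomologySelfIso (ComplexShape.up ℤ) 0 F

end Abstract

section Site

variable {C : Type u} [SmallCategory C] {J : GrothendieckTopology C} {O : Sheaf J CommRingCat.{u}}

/-- `- ⊗ O` is the identity. -/
def tRUnitIso : tR (ModSite.unit O) ≅ 𝟭 (ModSite.Mod O) :=
  Functor.isoWhiskerLeft fgt (Functor.isoWhiskerRight (rightUnitorNatIso (PreM O)) shf) ≪≫
    Functor.isoWhiskerLeft fgt (Functor.leftUnitor shf) ≪≫ shfCounitIso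

/-- Tensoring a complex with a unit. -/
def tRIdCxIso (U : ModSite.Mod O) (e : tR U ≅ 𝟭 _) (P : CC O) :
    ((tR U).mapHomologicalComplex (ComplexShape.up ℤ)).obj P ≅ P :=
  (NatIso.mapHomologicalComplex e (ComplexShape.up ℤ)).app P ≪≫
    (Functor.mapHomologicalComplexIdIso (ModSite.Mod O) (ComplexShape.up ℤ)).app P

/-- Cycles in degree `b` of a complex of flat modules vanishing above `b + 1`, exact at `b + 1`, are flat. -/
lemma isFlat_cycles_top (P : CC O) (b : ℤ) (hb : IsZero (P.X (b + 1 + 1))) (hex : P.ExactAt (b + 1))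
    (hf : ∀ i, ModSite.IsFlat (P.X i)) : ModSite.IsFlat (P.cycles b) := by
  have hepi : Epi (P.d b (b + 1)) := by
    have := (HomologicalComplex.exactAt_iff' _ b (b + 1) (b + 1 + 1) ((ComplexShape.up ℤ).prev_eq' rfl)
      ((ComplexShape.up ℤ).next_eq' rfl)).1 hex
    exact this.epi_f (hb.eq_of_tgt _ _)
  refine isFlat_X₁ (ShortComplex.mk (P.iCycles b) (P.d b (b + 1)) (P.iCycles_d b (b + 1))) ?_ (hf b) (hf (b + 1))
  exact { exact := ShortComplex.exact_of_f_is_kernel _ (P.cyclesIsKernel b (b + 1) ((ComplexShape.up ℤ).next_eq' rfl))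
          mono_f := inferInstanceAs (Mono (P.iCycles b))
          epi_g := hepi }

/-- A complex without cohomology above `b` has a resolution by flat modules vanishing above `b`. -/
theorem exists_flat_res_le (G : CC O) (b : ℤ) (hG : CochainComplex.IsLE G b) :
    ∃ (P : CC O) (c : P ⟶ G), (∀ i, b < i → IsZero (P.X i)) ∧ (∀ i, ModSite.IsFlat (P.X i)) ∧ QuasiIso c := by
  have := hG
  obtain ⟨P, c, hP, hf, hc⟩ := exists_flat_resolution_le (G.truncLE b) b
    (fun i hi => CochainComplex.isZero_of_isStrictlyLE (G.truncLE b) b i hi)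
  have hle : CochainComplex.IsLE P b := by
    rw [CochainComplex.isLE_iff]
    intro i hi
    refine (HomologicalComplex.exactAt_iff_isZero_homology _ _).2 ?_
    have := hc.quasiIsoAt i
    exact IsZero.of_iso (CochainComplex.isZero_of_isLE (G.truncLE b) b i hi) (isoOfQuasiIsoAt c i)
  refine ⟨P.truncLE b, P.ιTruncLE b ≫ c ≫ G.ιTruncLE b,
    fun i hi => CochainComplex.isZero_of_isStrictlyLE (P.truncLE b) b i hi, fun i => ?_, inferInstance⟩
  rcases lt_trichotomy i b with h | h | h
  · exact isFlat_of_iso (CochainComplex.truncLEXIso P b i h).symm (hf i)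
  · subst h
    exact isFlat_of_iso (CochainComplex.truncLEXIsoCycles P i).symm
      (isFlat_cycles_top P i (hP _ (by omega)) (CochainComplex.exactAt_of_isLE P i (i + 1) (by omega)) hf)
  · exact isFlat_of_isZero (CochainComplex.isZero_of_isStrictlyLE (P.truncLE b) b i h)

end Site

variable {X : Scheme.{u}}

/-- Cohomology of a representing complex. -/
lemma exactAt_iff_isZero_HD (E : CochainComplex X.Modules ℤ) (i : ℤ) :
    E.ExactAt i ↔ IsZero (DCoh.HD (DCoh.toD X E) i) :=
  (HomologicalComplex.exactAt_iff_isZero_homology _ i).trans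
    ⟨fun h => h.of_iso ((DerivedCategory.homologyFunctorFactors X.Modules i).app E),
      fun h => h.of_iso ((DerivedCategory.homologyFunctorFactors X.Modules i).app E).symm⟩

/-- A cokernel in a bounded above flat complex of the given tor amplitude is flat. -/
theorem isFlat_cokernel_of_vanish (E : CochainComplex X.Modules ℤ) (n : ℤ) (hn : ∀ i, n < i → IsZero (E.X i))
    (hflat : ∀ i, FlatMod.IsFlat (E.X i)) (a j : ℤ) (hj : j = a - 1)
    (hE : ∀ (F : X.Modules) [DCoh.HasLTensorMod F], IsZero (DCoh.HD ((DCoh.LTensorMod F).obj (DCoh.toD X E)) j)) :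
    FlatMod.IsFlat (cokernel (E.d (a - 1) a)) := by
  subst hj
  obtain ⟨hK, hf⟩ := kff_of_le E n hn hflat
  refine flatMod_of_isFlat _ (isFlat_cokernel_d (O := X.sheaf) E hf a fun F₀ => ?_)
  let F : X.Modules := F₀
  haveI := hasLTensorMod (X := X) F
  exact (exactAt_iff_isZero_HD (((DCoh.tensorRightMod F).mapHomologicalComplex (ComplexShape.up ℤ)).obj E) (a - 1)).2
    ((hE F).of_iso
      ((DerivedCategory.homologyFunctor X.Modules (a - 1)).mapIso (ltmIso F E hK hf)).symm)

/-- A cokernel in a bounded above flat complex of the given tor amplitude is flat. -/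
theorem isFlat_cokernel_of_torAmp (E : CochainComplex X.Modules ℤ) (n : ℤ) (hn : ∀ i, n < i → IsZero (E.X i))
    (hflat : ∀ i, FlatMod.IsFlat (E.X i)) (a b : ℤ) (hE : DCoh.HasTorAmplitudeIn a b (DCoh.toD X E)) :
    FlatMod.IsFlat (cokernel (E.d (a - 1) a)) := by
  exact isFlat_cokernel_of_vanish E n hn hflat a (a - 1) rfl fun F _ => hE F (a - 1) (Or.inl (by omega))

/-- The structure sheaf. -/
abbrev unitX (X : Scheme.{u}) : X.Modules := ModSite.unit X.sheaf

/-- Tor amplitude bounds the cohomology. -/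
theorem isZero_HD_of_torAmp {a b : ℤ} {K : DCoh.D X} (h : DCoh.HasTorAmplitudeIn a b K) (i : ℤ)
    (hi : i < a ∨ b < i) : IsZero (DCoh.HD K i) := by
  haveI := hasLTensorMod (X := X) (unitX X)
  let M := DerivedCategory.Q.objPreimage K
  let e : DerivedCategory.Q.obj M ≅ K := DerivedCategory.Q.objObjPreimageIso K
  obtain ⟨P, q, hK, hf, hq, -⟩ := exists_resolution (O := X.sheaf) M
  have hq' : IsIso (DerivedCategory.Q.map (C := CochainComplex X.Modules ℤ) q) :=
    (DerivedCategory.isIso_Q_map_iff_quasiIso X.Modules q).2 hq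
  let e' : DCoh.toD X P ≅ K := asIso (DerivedCategory.Q.map (C := CochainComplex X.Modules ℤ) q) ≪≫ e
  let u : ((DCoh.tensorRightMod (unitX X)).mapHomologicalComplex (ComplexShape.up ℤ)).obj P ≅ P :=
    tRIdCxIso (O := X.sheaf) (ModSite.unit X.sheaf) tRUnitIso P
  exact (h (unitX X) i hi).of_iso ((DerivedCategory.homologyFunctor X.Modules i).mapIso
    ((DCoh.LTensorMod (unitX X)).mapIso e'.symm ≪≫ ltmIso (unitX X) P hK hf ≪≫ DerivedCategory.Q.mapIso u ≪≫ e')).symm

/-- Tor amplitude gives flat amplitude. -/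
theorem flatAmp_of_torAmp {a b : ℤ} (hab : a ≤ b) {K : DCoh.D X} (h : DCoh.HasTorAmplitudeIn a b K) :
    DCoh.HasFlatAmplitudeIn a b K := by
  let M := DerivedCategory.Q.objPreimage K
  let e : DerivedCategory.Q.obj M ≅ K := DerivedCategory.Q.objObjPreimageIso K
  have hM : ∀ i, i < a ∨ b < i → M.ExactAt i := fun i hi => (exactAt_iff_isZero_HD M i).2
    ((isZero_HD_of_torAmp h i hi).of_iso ((DerivedCategory.homologyFunctor X.Modules i).mapIso e))
  haveI : M.IsLE b := (CochainComplex.isLE_iff _ _).2 fun i hi => hM i (Or.inr hi)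
  obtain ⟨P, c, hP, hf, hc⟩ := exists_flat_res_le (O := X.sheaf) M b ‹_›
  have hfl : ∀ i, FlatMod.IsFlat (P.X i) := fun i => flatMod_of_isFlat _ (hf i)
  have hc' : IsIso (DerivedCategory.Q.map (C := CochainComplex X.Modules ℤ) c) :=
    (DerivedCategory.isIso_Q_map_iff_quasiIso X.Modules c).2 hc
  let e' : DCoh.toD X P ≅ K := asIso (DerivedCategory.Q.map (C := CochainComplex X.Modules ℤ) c) ≪≫ e
  have hE : DCoh.HasTorAmplitudeIn a b (DCoh.toD X P) := by
    intro F _ i hi
    exact (h F i hi).of_iso ((DerivedCategory.homologyFunctor X.Modules i).mapIso ((DCoh.LTensorMod F).mapIso e'))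
  have hco := isFlat_cokernel_of_torAmp P b hP hfl a b hE
  let P' : CochainComplex X.Modules ℤ := P
  haveI : P'.IsGE a := (CochainComplex.isGE_iff _ _).2 fun i hi =>
    (exactAt_iff_isZero_HD P' i).2 ((isZero_HD_of_torAmp hE i (Or.inl hi)))
  refine ⟨P'.truncGE a, fun i hi => ?_, fun i => ?_,
    ⟨(asIso (DerivedCategory.Q.map (P'.πTruncGE a))).symm ≪≫ e'⟩⟩
  · rcases hi with hi | hi
    · exact CochainComplex.isZero_of_isStrictlyGE (P'.truncGE a) a i hi
    · exact (hP i hi).of_iso (CochainComplex.truncGEXIso P' a i (by omega))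
  · rcases lt_trichotomy i a with hlt | heq | hgt
    · exact flatMod_of_isFlat _ (isFlat_of_isZero (O := X.sheaf)
        (CochainComplex.isZero_of_isStrictlyGE (P'.truncGE a) a i hlt))
    · subst heq
      exact flatMod_of_isFlat _ (isFlat_of_iso (O := X.sheaf)
        (CochainComplex.truncGEXIsoOpcycles P' i ≪≫ (P'.opcyclesIsCokernel (i - 1) i
          ((ComplexShape.up ℤ).prev_eq' (sub_add_cancel i 1))).coconePointUniqueUpToIso (cokernelIsCokernel _)).symm
        (isFlat_of_flatMod _ hco))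
    · exact flatMod_of_isFlat _ (isFlat_of_iso (O := X.sheaf) (CochainComplex.truncGEXIso P' a i hgt).symm (hf i))

/-- A flat module has flat amplitude in `[0, 0]`. -/
theorem flatAmp_inD (F : X.Modules) (hF : FlatMod.IsFlat F) : DCoh.HasFlatAmplitudeIn 0 0 (DCoh.inD X F) := by
  refine ⟨(HomologicalComplex.single X.Modules (ComplexShape.up ℤ) 0).obj F,
    fun i hi => HomologicalComplex.isZero_single_obj_X _ _ _ _ (by omega), fun i => ?_,
    ⟨((SingleFunctors.evaluation _ _ 0).mapIso (DerivedCategory.singleFunctorsPostcompQIso X.Modules)).symm.app F⟩⟩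
  by_cases hi : i = 0
  · subst hi
    exact flatMod_of_isFlat _ (isFlat_of_iso (O := X.sheaf)
      (HomologicalComplex.singleObjXSelf (ComplexShape.up ℤ) 0 F).symm (isFlat_of_flatMod _ hF))
  · exact flatMod_of_isFlat _ (isFlat_of_isZero (O := X.sheaf) (HomologicalComplex.isZero_single_obj_X _ _ _ _ hi))

/-- Vanishing of the first Tor gives flatness. -/
theorem isFlat_of_tor_one (F : X.Modules)
    (h : ∀ (G : X.Modules) [DCoh.HasLTensorMod G],
      IsZero (DCoh.HD ((DCoh.LTensorMod G).obj (DCoh.inD X F)) (-1))) : FlatMod.IsFlat F := by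
  let S : CochainComplex X.Modules ℤ := (HomologicalComplex.single X.Modules (ComplexShape.up ℤ) 0).obj F
  let eS : DCoh.toD X S ≅ DCoh.inD X F :=
    ((SingleFunctors.evaluation _ _ 0).mapIso (DerivedCategory.singleFunctorsPostcompQIso X.Modules)).symm.app F
  haveI : S.IsLE 0 := (CochainComplex.isLE_iff _ _).2 fun i hi =>
    ShortComplex.exact_of_isZero_X₂ _ (HomologicalComplex.isZero_single_obj_X (ComplexShape.up ℤ) 0 F i (by omega))
  obtain ⟨P, c, hP, hf, hc⟩ := exists_flat_res_le (O := X.sheaf) S 0 ‹_›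
  have hc' : IsIso (DerivedCategory.Q.map (C := CochainComplex X.Modules ℤ) c) :=
    (DerivedCategory.isIso_Q_map_iff_quasiIso X.Modules c).2 hc
  let P' : CochainComplex X.Modules ℤ := P
  let e3 : DCoh.toD X P' ≅ DCoh.inD X F :=
    asIso (DerivedCategory.Q.map (C := CochainComplex X.Modules ℤ) c) ≪≫ eS
  have hco : FlatMod.IsFlat (cokernel (P'.d ((0 : ℤ) - 1) 0)) :=
    isFlat_cokernel_of_vanish P' 0 hP (fun i => flatMod_of_isFlat _ (hf i)) 0 (-1) (by norm_num) fun G _ =>
      (h G).of_iso ((DerivedCategory.homologyFunctor X.Modules (-1)).mapIso ((DCoh.LTensorMod G).mapIso e3))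
  let c' : P' ⟶ S := c
  have hq : QuasiIso c' := (DerivedCategory.isIso_Q_map_iff_quasiIso X.Modules c').1 hc'
  let e2 : cokernel (P'.d ((0 : ℤ) - 1) 0) ≅ F :=
    cokerIsoHomology P' (hP 1 (by omega)) ≪≫ homologyIsoOfRes (A := X.Modules) (P := P') c' hq
  exact flatMod_of_isFlat _ (isFlat_of_iso (O := X.sheaf) e2 (isFlat_of_flatMod _ hco))

end Groth.Agent.DCK91
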