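import Groth.Agent.DCK91.TorFlat

/-!
Derived tensor product and distinguished triangles.
-/

set_option autoImplicit false
set_option linter.style.haveILetI false

noncomputable section

universe w v u

open CategoryTheory Limits Pretriangulated AlgebraicGeometry
open Groth.Agent.Mod48

namespace Groth.Agent.DCK91

section Abstract

variable {A : Type u} [Category.{v} A] [Abelian A] [HasDerivedCategory.{w} A]

/-- Replacing a map of complexes by a quasi-isomorphic one does not change its triangle. -/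
lemma exists_iso_triangle {K L P N : CochainComplex A ℤ} (φ : K ⟶ L) (p : P ⟶ K) (c : N ⟶ L) (b : P ⟶ N)
    (hp : IsIso (DerivedCategory.Q.map p)) (hc : IsIso (DerivedCategory.Q.map c)) (h : b ≫ c = p ≫ φ) :
    Nonempty (DerivedCategory.Q.mapTriangle.obj (CochainComplex.mappingCone.triangle b) ≅
      DerivedCategory.Q.mapTriangle.obj (CochainComplex.mappingCone.triangle φ)) :=
  ⟨isoTriangleOfIso₁₂ _ _ (DerivedCategory.mappingCone_triangle_distinguished b)
    (DerivedCategory.mappingCone_triangle_distinguished φ) (@asIso _ _ _ _ _ hp) (@asIso _ _ _ _ _ hc)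
    (show DerivedCategory.Q.map b ≫ DerivedCategory.Q.map c = DerivedCategory.Q.map p ≫ DerivedCategory.Q.map φ by
      rw [← Functor.map_comp, ← Functor.map_comp, h])⟩

/-- Vanishing of the homology of the third vertex. -/
lemma isZero₃ (T : Triangle (DerivedCategory A)) (hT : T ∈ distinguishedTriangles) (i : ℤ)
    (h2 : IsZero ((DerivedCategory.homologyFunctor A i).obj T.obj₂))
    (h1 : IsZero ((DerivedCategory.homologyFunctor A (i + 1)).obj T.obj₁)) :
    IsZero ((DerivedCategory.homologyFunctor A i).obj T.obj₃) :=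
  (DerivedCategory.HomologySequence.exact₃ T hT i (i + 1) rfl).isZero_X₂ (h2.eq_of_src _ _) (h1.eq_of_tgt _ _)

/-- Vanishing of the homology of the second vertex. -/
lemma isZero₂ (T : Triangle (DerivedCategory A)) (hT : T ∈ distinguishedTriangles) (i : ℤ)
    (h1 : IsZero ((DerivedCategory.homologyFunctor A i).obj T.obj₁))
    (h3 : IsZero ((DerivedCategory.homologyFunctor A i).obj T.obj₃)) :
    IsZero ((DerivedCategory.homologyFunctor A i).obj T.obj₂) :=
  (DerivedCategory.HomologySequence.exact₂ T hT i).isZero_X₂ (h1.eq_of_src _ _) (h3.eq_of_tgt _ _)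

/-- Vanishing of the homology of the first vertex. -/
lemma isZero₁ (T : Triangle (DerivedCategory A)) (hT : T ∈ distinguishedTriangles) (j i : ℤ) (hji : j + 1 = i)
    (h3 : IsZero ((DerivedCategory.homologyFunctor A j).obj T.obj₃))
    (h2 : IsZero ((DerivedCategory.homologyFunctor A i).obj T.obj₂)) :
    IsZero ((DerivedCategory.homologyFunctor A i).obj T.obj₁) :=
  (DerivedCategory.HomologySequence.exact₁ T hT j i hji).isZero_X₂ (h3.eq_of_src _ _) (h2.eq_of_tgt _ _)

/-- A distinguished triangle comes from a map of good complexes, if there are good resolutions. -/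
lemma exists_triangle_of_res (R : CochainComplex A ℤ → Prop)
    (h0 : ∀ K : CochainComplex A ℤ, ∃ (P : CochainComplex A ℤ) (p : P ⟶ K),
      R P ∧ IsIso (DerivedCategory.Q.map p))
    (h1 : ∀ (P L : CochainComplex A ℤ) (φ : P ⟶ L), R P → ∃ (N : CochainComplex A ℤ) (b : P ⟶ N) (c : N ⟶ L),
      b ≫ c = φ ∧ R N ∧ IsIso (DerivedCategory.Q.map c))
    (T : Triangle (DerivedCategory A)) (hT : T ∈ distinguishedTriangles) :
    ∃ (P N : CochainComplex A ℤ) (b : P ⟶ N), R P ∧ R N ∧
      Nonempty (DerivedCategory.Q.mapTriangle.obj (CochainComplex.mappingCone.triangle b) ≅ T) := by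
  obtain ⟨K, L, φ, ⟨e⟩⟩ := (DerivedCategory.mem_distTriang_iff T).1 hT
  obtain ⟨P, p, hP, hp⟩ := h0 K
  obtain ⟨N, b, c, hbc, hN, hc⟩ := h1 P L (p ≫ φ) hP
  obtain ⟨e'⟩ := exists_iso_triangle φ p c b hp hc hbc
  exact ⟨P, N, b, hP, hN, ⟨e' ≪≫ e.symm⟩⟩

end Abstract

attribute [local instance] HasDerivedCategory.standard

variable {X : Scheme.{u}}

variable (X) in
/-- Resolutions, stated in the derived category. -/
theorem res₀ (K : CochainComplex X.Modules ℤ) : ∃ (P : CochainComplex X.Modules ℤ) (p : P ⟶ K),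
    (ModSite.IsKFlat (O := X.sheaf) P ∧ ∀ i, ModSite.IsFlat (O := X.sheaf) (P.X i)) ∧
      IsIso (DerivedCategory.Q.map (C := CochainComplex X.Modules ℤ) p) := by
  obtain ⟨P, p, hP, hPf, hp, -⟩ := exists_resolution (O := X.sheaf) K
  exact ⟨P, p, ⟨hP, hPf⟩, (DerivedCategory.isIso_Q_map_iff_quasiIso X.Modules p).2 hp⟩

variable (X) in
/-- Factorizations, stated in the derived category. -/
theorem res₁ (P L : CochainComplex X.Modules ℤ) (φ : P ⟶ L)
    (hP : ModSite.IsKFlat (O := X.sheaf) P ∧ ∀ i, ModSite.IsFlat (O := X.sheaf) (P.X i)) :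
    ∃ (N : CochainComplex X.Modules ℤ) (b : P ⟶ N) (c : N ⟶ L), b ≫ c = φ ∧
      (ModSite.IsKFlat (O := X.sheaf) N ∧ ∀ i, ModSite.IsFlat (O := X.sheaf) (N.X i)) ∧
      IsIso (DerivedCategory.Q.map (C := CochainComplex X.Modules ℤ) c) := by
  obtain ⟨N, b, c, hbc, hN, hNf, hc, -⟩ := exists_resolution_factor (O := X.sheaf) (G := L) φ hP.1
  exact ⟨N, b, c, hbc, ⟨hN, hNf hP.2⟩, (DerivedCategory.isIso_Q_map_iff_quasiIso X.Modules c).2 hc⟩

/-- A distinguished triangle comes from a map of K-flat complexes with flat terms. -/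
theorem exists_KFF_triangle (T : Triangle (DCoh.D X)) (hT : T ∈ distinguishedTriangles) :
    ∃ (P N : CochainComplex X.Modules ℤ) (b : P ⟶ N),
      (ModSite.IsKFlat (O := X.sheaf) P ∧ ∀ i, ModSite.IsFlat (O := X.sheaf) (P.X i)) ∧
      (ModSite.IsKFlat (O := X.sheaf) N ∧ ∀ i, ModSite.IsFlat (O := X.sheaf) (N.X i)) ∧
      Nonempty (DerivedCategory.Q.mapTriangle.obj (CochainComplex.mappingCone.triangle b) ≅ T) :=
  exists_triangle_of_res (A := X.Modules)
    (fun (P : CochainComplex X.Modules ℤ) => ModSite.IsKFlat (O := X.sheaf) P ∧ ∀ i, ModSite.IsFlat (O := X.sheaf) (P.X i))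
    (res₀ X) (res₁ X) T hT

/-- The derived tensor products of the vertices of a triangle form a triangle. -/
theorem exists_LTM_triangle (T : Triangle (DCoh.D X)) (hT : T ∈ distinguishedTriangles) (M : X.Modules)
    [DCoh.HasLTensorMod M] :
    ∃ T' : Triangle (DCoh.D X), T' ∈ distinguishedTriangles ∧
      Nonempty (T'.obj₁ ≅ (DCoh.LTensorMod M).obj T.obj₁) ∧
      Nonempty (T'.obj₂ ≅ (DCoh.LTensorMod M).obj T.obj₂) ∧
      Nonempty (T'.obj₃ ≅ (DCoh.LTensorMod M).obj T.obj₃) := by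
  obtain ⟨P, N, b, ⟨hP, hPf⟩, ⟨hN, hNf⟩, ⟨e⟩⟩ := exists_KFF_triangle T hT
  let G := (DCoh.tensorRightMod M).mapHomologicalComplex (ComplexShape.up ℤ)
  refine ⟨_, DerivedCategory.mappingCone_triangle_distinguished (G.map b), ⟨?_⟩, ⟨?_⟩, ⟨?_⟩⟩
  · exact (ltmIso M P hP hPf).symm ≪≫ (DCoh.LTensorMod M).mapIso (Triangle.π₁.mapIso e)
  · exact (ltmIso M N hN hNf).symm ≪≫ (DCoh.LTensorMod M).mapIso (Triangle.π₂.mapIso e)
  · exact DerivedCategory.Q.mapIso (CochainComplex.mappingCone.mapHomologicalComplexIso b (DCoh.tensorRightMod M)).symm ≪≫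
      (ltmIso M _ ((isKFlat_cone_two_out_of_three (O := X.sheaf) b).1 hP hN)
        (isFlat_cone_X (O := X.sheaf) b hPf hNf)).symm ≪≫
      (DCoh.LTensorMod M).mapIso (Triangle.π₃.mapIso e)

variable {T : Triangle (DCoh.D X)} (hT : T ∈ distinguishedTriangles) {a b : ℤ}
include hT

theorem torAmp₃ (h1 : DCoh.HasTorAmplitudeIn (a + 1) (b + 1) T.obj₁) (h2 : DCoh.HasTorAmplitudeIn a b T.obj₂) :
    DCoh.HasTorAmplitudeIn a b T.obj₃ := by
  intro M _ i hi
  obtain ⟨T', hT', ⟨e1⟩, ⟨e2⟩, ⟨e3⟩⟩ := exists_LTM_triangle T hT M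
  exact (isZero₃ T' hT' i ((h2 M i hi).of_iso ((DerivedCategory.homologyFunctor X.Modules i).mapIso e2))
    ((h1 M (i + 1) (by omega)).of_iso ((DerivedCategory.homologyFunctor X.Modules (i + 1)).mapIso e1))).of_iso
      ((DerivedCategory.homologyFunctor X.Modules i).mapIso e3).symm

theorem torAmp₂ (h1 : DCoh.HasTorAmplitudeIn a b T.obj₁) (h3 : DCoh.HasTorAmplitudeIn a b T.obj₃) :
    DCoh.HasTorAmplitudeIn a b T.obj₂ := by
  intro M _ i hi
  obtain ⟨T', hT', ⟨e1⟩, ⟨e2⟩, ⟨e3⟩⟩ := exists_LTM_triangle T hT M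
  exact (isZero₂ T' hT' i ((h1 M i hi).of_iso ((DerivedCategory.homologyFunctor X.Modules i).mapIso e1))
    ((h3 M i hi).of_iso ((DerivedCategory.homologyFunctor X.Modules i).mapIso e3))).of_iso
      ((DerivedCategory.homologyFunctor X.Modules i).mapIso e2).symm

theorem torAmp₁ (h2 : DCoh.HasTorAmplitudeIn (a + 1) (b + 1) T.obj₂) (h3 : DCoh.HasTorAmplitudeIn a b T.obj₃) :
    DCoh.HasTorAmplitudeIn (a + 1) (b + 1) T.obj₁ := by
  intro M _ i hi
  obtain ⟨T', hT', ⟨e1⟩, ⟨e2⟩, ⟨e3⟩⟩ := exists_LTM_triangle T hT M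
  exact (isZero₁ T' hT' (i - 1) i (by omega)
    ((h3 M (i - 1) (by omega)).of_iso ((DerivedCategory.homologyFunctor X.Modules (i - 1)).mapIso e3))
    ((h2 M i hi).of_iso ((DerivedCategory.homologyFunctor X.Modules i).mapIso e2))).of_iso
      ((DerivedCategory.homologyFunctor X.Modules i).mapIso e1).symm

end Groth.Agent.DCK91
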