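import Groth.Agent.DCK91.KFlatStalk
import Groth.Agent.DR39.KFlatBC
import Mathlib.AlgebraicGeometry.Modules.Tilde
import Mathlib.CategoryTheory.Adjunction.Unique

/-!
The stalks of tilde, naturally; tilde preserves K-flat complexes.
-/

set_option autoImplicit false
set_option backward.isDefEq.respectTransparency.types false
set_option linter.style.haveILetI false

noncomputable section

universe u

open CategoryTheory Limits AlgebraicGeometry TopologicalSpace Opposite MonoidalCategory TensorProduct
open Groth.Agent.QC70

namespace Groth.Agent.DCK91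

variable (R : CommRingCat.{u}) (x : Spec R)

/-- The map to the local ring. -/
abbrev specGerm : R →+* (Spec R).presheaf.stalk x :=
  (gx x ⊤ trivial).comp (Scheme.ΓSpecIso R).inv.hom

lemma valAt_skyF_map {X : Scheme.{u}} (y : X) {E E' : ModuleCat.{u} (X.presheaf.stalk y)} (g : E ⟶ E')
    {U : X.Opens} (hy : y ∈ U) (s : Γ((skyF y).obj E, U)) :
    valAt y E' hy (((skyF y).map g).app U s) = g (valAt y E hy s) := by
  have h := LinearMap.congr_fun (congrArg ModuleCat.Hom.hom (skyFStalk_natural y g))
    (germM ((skyF y).obj E) U y hy s)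
  change skyStalk y E' ((SP y).map ((skyF y).map g) _) = g (skyStalk y E (germM (skyE y E) U y hy s)) at h
  rw [skyStalk_germ, SP_map_apply, stalkMapM_germ] at h
  rw [← h]
  exact (skyStalk_germ y E' hy _).symm

/-- Global sections of a skyscraper. -/
def skyΓLin (E : ModuleCat.{u} ((Spec R).presheaf.stalk x)) :
    ((moduleSpecΓFunctor (R := R)).obj (skyE x E) : ModuleCat R) →ₗ[R]
      ((ModuleCat.restrictScalars (specGerm R x)).obj E : ModuleCat R) where
  toFun s := (valAt x (E : Type u) (U := (⊤ : (Spec R).Opens)) trivial s : (E : Type u))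
  map_add' a b := map_add (valAt x E (U := ⊤) trivial) a b
  map_smul' r s := valAt_smul (U := ⊤) trivial ((Scheme.ΓSpecIso R).inv.hom r) s

/-- Global sections of skyscrapers. -/
def skyΓIso : skyF x ⋙ moduleSpecΓFunctor (R := R) ≅ ModuleCat.restrictScalars.{u} (specGerm R x) :=
  NatIso.ofComponents (fun E => (LinearEquiv.ofBijective (skyΓLin R x E) (bijective_valAt (x := x) (E := (E : Type u)) (U := ⊤) trivial)).toModuleIso)
    fun {E E'} g => ModuleCat.hom_ext (LinearMap.ext fun s => valAt_skyF_map x g (U := ⊤) trivial s)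

/-- The stalks of tilde. -/
def tildeStalkIso : tilde.functor R ⋙ SP x ≅ ModuleCat.extendScalars.{u, u, u} (specGerm R x) :=
  Adjunction.leftAdjointUniq ((tilde.adjunction.comp (skyAdj x)).ofNatIsoRight (skyΓIso R x))
    (ModuleCat.extendRestrictScalarsAdj.{u, u, u} (specGerm R x))

/-- Tilde preserves K-flat complexes. -/
theorem isKFlat_tilde (K : DRing.Cx R) (hK : DRing.IsKFlat R K) :
    DCoh.IsKFlat (((tilde.functor R).mapHomologicalComplex (ComplexShape.up ℤ)).obj K) := by
  refine isKFlat_of_stalk _ fun x => ?_
  have h := DR39.isKFlat_extendScalars (specGerm R x) _ hK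
  intro M hM i
  exact (h M hM i).of_iso ((HomologicalComplex.homologyFunctor _ _ i).mapIso (tensorIso (Iso.refl M)
    (HomologicalComplex.Hom.isoOfComponents (fun j => (tildeStalkIso R x).app (K.X j))
      (fun j k _ => ((tildeStalkIso R x).hom.naturality (K.d j k)).symm))))

end Groth.Agent.DCK91
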