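import Groth.Agent.DCK91.KFlatPull
import Groth.Agent.DCK91.Amp
import Groth.Agent.DR39.TensorSymm

/-!
The derived inverse image is computed by any K-flat complex.
-/

set_option autoImplicit false
set_option linter.style.haveILetI false

noncomputable section

universe u

open CategoryTheory Limits AlgebraicGeometry
open Groth.Agent.Mod48
attribute [local instance] HasDerivedCategory.standard

namespace Groth.Agent.DCK91

variable {X Y : Scheme.{u}} (f : X ⟶ Y)

/-- Base change of an acyclic K-flat complex is acyclic. -/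
lemma acyclic_extendScalars {A B : Type u} [CommRing A] [CommRing B] (φ : A →+* B) (C : DRing.Cx A)
    (hC : DRing.IsKFlat A C) (h : ∀ i, IsZero (C.homology i)) (i : ℤ) :
    IsZero ((((ModuleCat.extendScalars.{u, u, u} φ).mapHomologicalComplex (ComplexShape.up ℤ)).obj C).homology i) := by
  have h0 : QuasiIso (0 : C ⟶ C) := by
    rw [quasiIso_iff]
    intro j
    rw [quasiIsoAt_iff_isIso_homologyMap]
    exact isIso_of_source_target_iso_zero _ (h j).isoZero (h j).isoZero
  have h1 := DR39.quasiIso_extendScalars_of_kflat φ hC hC (0 : C ⟶ C)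
  change QuasiIso (((ModuleCat.extendScalars.{u, u, u} φ).mapHomologicalComplex (ComplexShape.up ℤ)).map (0 : C ⟶ C)) at h1
  rw [Functor.map_zero] at h1
  have h2 : IsIso (HomologicalComplex.homologyMap
      (0 : ((ModuleCat.extendScalars.{u, u, u} φ).mapHomologicalComplex (ComplexShape.up ℤ)).obj C ⟶ _) i) :=
    (quasiIsoAt_iff_isIso_homologyMap _ i).1 (h1.quasiIsoAt i)
  rw [HomologicalComplex.homologyMap_zero] at h2
  exact (IsZero.iff_id_eq_zero _).2 ((cancel_epi (0 :
    (((ModuleCat.extendScalars.{u, u, u} φ).mapHomologicalComplex (ComplexShape.up ℤ)).obj C).homology i ⟶ _)).1 (by simp))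

/-- The inverse image of an acyclic K-flat complex is acyclic. -/
theorem acyclic_pullback (C : CochainComplex Y.Modules ℤ) (hC : DCoh.IsKFlat C) (h : C.Acyclic) :
    (((Scheme.Modules.pullback f).mapHomologicalComplex (ComplexShape.up ℤ)).obj C).Acyclic := by
  intro i
  rw [HomologicalComplex.exactAt_iff_isZero_homology]
  refine isZero_of_stalks fun x => ?_
  have h1 := acyclic_extendScalars (f.stalkMap x).hom ((SPc (f x)).obj C) (isKFlat_stalk hC (f x))
    (fun j => isZero_homology_map (SP (f x)) C j ((HomologicalComplex.exactAt_iff_isZero_homology _ _).1 (h j))) i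
  let e : ((extF f x).mapHomologicalComplex (ComplexShape.up ℤ)).obj ((SPc (f x)).obj C) ≅
      (SPc x).obj (((Scheme.Modules.pullback f).mapHomologicalComplex (ComplexShape.up ℤ)).obj C) :=
    HomologicalComplex.Hom.isoOfComponents (fun j => (pullStalkIso f x).app (C.X j))
      (fun j k _ => ((pullStalkIso f x).hom.naturality (C.d j k)).symm)
  exact h1.of_iso ((((((Scheme.Modules.pullback f).mapHomologicalComplex (ComplexShape.up ℤ)).obj C).sc i).mapHomologyIso
    (SP x)).symm ≪≫ ((HomologicalComplex.homologyFunctor _ _ i).mapIso e).symm)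

/-- The inverse image preserves quasi-isomorphisms between K-flat complexes. -/
theorem isIso_Q_map_pullback {P E : CochainComplex Y.Modules ℤ} (φ : P ⟶ E) (hP : DCoh.IsKFlat P)
    (hE : DCoh.IsKFlat E) (hφ : IsIso (DerivedCategory.Q.map φ)) :
    IsIso (DerivedCategory.Q.map (((Scheme.Modules.pullback f).mapHomologicalComplex (ComplexShape.up ℤ)).map φ)) := by
  rw [isIso_Q_map_iff_cone] at hφ ⊢
  exact acyclic_of_iso (CochainComplex.mappingCone.mapHomologicalComplexIso φ (Scheme.Modules.pullback f))
    (acyclic_pullback f _ ((isKFlat_cone_two_out_of_three (O := Y.sheaf) φ).1 hP hE) hφ)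

/-- The value of the derived inverse image on a K-flat complex. -/
theorem nonempty_lpullIso [DCoh.HasLpull f] (E : CochainComplex Y.Modules ℤ) (hE : DCoh.IsKFlat E) :
    Nonempty ((DCoh.Lpull f).obj (DerivedCategory.Q.obj E) ≅
      DerivedCategory.Q.obj (((Scheme.Modules.pullback f).mapHomologicalComplex (ComplexShape.up ℤ)).obj E)) := by
  obtain ⟨P, p, hP, hPf, hp, -⟩ := exists_resolution (O := Y.sheaf) E
  have hp' : IsIso (DerivedCategory.Q.map (C := CochainComplex Y.Modules ℤ) p) :=
    (DerivedCategory.isIso_Q_map_iff_quasiIso Y.Modules p).2 hp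
  exact ⟨(DCoh.Lpull f).mapIso (@asIso _ _ _ _ _ hp').symm ≪≫ lpullIso f P hP hPf ≪≫
    @asIso _ _ _ _ _ (isIso_Q_map_pullback f (P := P) p hP hE hp')⟩

end Groth.Agent.DCK91
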