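import Groth.Agent.DCK91.StalkTensorIso
import Groth.Agent.Mod48.Flat
import Groth.Prelude.Def_FlatMod2

/-!
Stalkwise flat modules on a scheme are flat for the tensor product of sheaves.
-/

universe u

open CategoryTheory CategoryTheory.Limits Opposite MonoidalCategory AlgebraicGeometry TopologicalSpace

namespace Groth.Agent.DCK91

open scoped ZeroObject

open Groth.Agent.Mod48

section Site

variable {C : Type u} [SmallCategory C] {J : GrothendieckTopology C} {O : Sheaf J CommRingCat.{u}}

/-- Sheafification kills a locally zero kernel. -/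
lemma mono_shf_map {P Q : PreM O} (g : P ⟶ Q)
    (h : ∀ (U : C) (z : P.obj (op U)), g.app (op U) z = 0 →
      ∃ S ∈ J U, ∀ ⦃V : C⦄ (j : V ⟶ U), S j → res P j.op z = 0) :
    Mono (shf.map g) := by
  have hlz : ∀ (U : C) (k : (kernel g).obj (op U)),
      ∃ S ∈ J U, ∀ ⦃V : C⦄ (j : V ⟶ U), S j → res (kernel g) j.op k = 0 := by
    intro U k
    have h0 : g.app (op U) ((kernel.ι g).app (op U) k) = 0 := by
      change ((kernel.ι g ≫ g).app (op U)) k = 0
      rw [kernel.condition]
      rfl
    obtain ⟨S, hS, hz⟩ := h U _ h0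
    refine ⟨S, hS, fun V j hj => PresheafOfModules.injective_of_mono (kernel.ι g) (op V) ?_⟩
    exact ((PresheafOfModules.naturality_apply (kernel.ι g) j.op k).trans (hz j hj)).trans (map_zero _).symm
  have hiso : IsIso (shf.map (0 : kernel g ⟶ 0)) := by
    rw [isIso_shf_map_iff_isLocalIso]
    refine ⟨⟨fun {U} x y _ => ?_⟩, ⟨fun {U} s => ?_⟩⟩
    · obtain ⟨S, hS, hz⟩ := hlz U.unop (x - y)
      refine J.superset_covering (fun V j hj => ?_) hS
      have h1 : (kernel g).map j.op (x - y) = 0 := hz j hj
      exact sub_eq_zero.1 ((map_sub _ _ _).symm.trans h1)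
    · refine J.superset_covering (fun V j _ => ⟨0, ?_⟩) (J.top_mem U)
      have hz : IsZero ((0 : PreM O).obj (op V)) :=
          (PresheafOfModules.evaluation _ (op V)).map_isZero (isZero_zero (PreM O))
      have := ModuleCat.subsingleton_of_isZero hz
      exact Subsingleton.elim (α := (0 : PreM O).obj (op V)) _ _
  have hk : IsZero (shf.obj (kernel g)) :=
    IsZero.of_iso ((shf (O := O)).map_isZero (isZero_zero _)) (asIso (shf.map (0 : kernel g ⟶ 0)))
  exact Preadditive.mono_of_isZero_kernel _ (hk.of_iso (PreservesKernel.iso shf g).symm)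

end Site

/-- On a space, stalkwise flatness gives exactness of the tensor product. -/
theorem isFlat_of_flat_stalks {T : TopCat.{u}} {O : Sheaf (Opens.grothendieckTopology T) CommRingCat.{u}}
    (M : ModSite.Mod O) (hM : ∀ x : T, Module.Flat (TopCat.Presheaf.stalk (X := T) (C := CommRingCat.{u}) O.obj x) (St (R := O.obj) (pre M) x)) :
    ModSite.IsFlat M := by
  refine (isFlat_iff_mono M).2 fun A B k _ => ?_
  refine mono_shf_map (fgt.map k ▷ pre M) fun U z hz => ?_
  let Z : Sieve U :=
    { arrows := fun V j => res (pre A ⊗ pre M) j.op z = 0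
      downward_closed := fun {V W j} hj l => by
        rw [op_comp, ← res_res, hj]
        exact map_zero _ }
  refine ⟨Z, fun x hx => ?_, fun V j hj => hj⟩
  have : (fgt : ModSite.Mod O ⥤ PreM O).PreservesMonomorphisms :=
    Functor.preservesMonomorphisms_of_isRightAdjoint _
  have : Mono (fgt.map k) := inferInstance
  obtain ⟨V, hV, hxV, h0⟩ := exists_rs_eq_zero (R := O.obj) (pre M) x (fgt.map k) hx (hM x) z hz
  exact ⟨V, homOfLE hV, h0, hxV⟩

/-- Stalkwise flatness gives exactness of the tensor product, on a scheme. -/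
theorem isFlat_of_flatMod {X : Scheme.{u}} (M : X.Modules) (hM : FlatMod.IsFlat M) :
    ModSite.IsFlat (O := X.sheaf) M :=
  isFlat_of_flat_stalks (O := X.sheaf) M hM

section Converse

variable {T : TopCat.{u}} {O : Sheaf (Opens.grothendieckTopology T) CommRingCat.{u}}

/-- A locally injective map is injective on stalks. -/
lemma injective_stalkHom_of_isLocalIso {P Q : PreM O} (f : P ⟶ Q) (hf : Groth.Agent.Mod48.IsLocalIso f)
    (x : T) : Function.Injective (stalkHom (R := O.obj) x f) := by
  intro e e' he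
  obtain ⟨U, hU, z, rfl⟩ := exists_gm (R := O.obj) P e
  obtain ⟨V, hV, w, rfl⟩ := exists_gm (R := O.obj) P e'
  rw [stalkHom_gm, stalkHom_gm] at he
  obtain ⟨W, i, j, hW, h⟩ := gm_eq (R := O.obj) Q hU hV _ _ he
  rw [← app_rs, ← app_rs] at h
  obtain ⟨W', k, hk, hW'⟩ := hf.inj.equalizerSieve_mem (X := op W) (rs P i z) (rs P j w) h x hW
  rw [← gm_rs (R := O.obj) P i x hW z, ← gm_rs (R := O.obj) P j x hW w,
    ← gm_rs (R := O.obj) P k.le x hW', ← gm_rs (R := O.obj) P k.le x hW' (rs P j w)]
  exact congrArg _ hk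

/-- On a space, flatness for the tensor product gives stalkwise flatness. -/
theorem flat_stalks_of_isFlat (M : ModSite.Mod O) (hM : ModSite.IsFlat M) (x : T) :
    Module.Flat (TopCat.Presheaf.stalk (X := T) (C := CommRingCat.{u}) O.obj x) (St (R := O.obj) (pre M) x) := by
  refine flat_stalk_of_ideals (R := O.obj) (pre M) x fun U _ n a => ?_
  have : Mono (shf.map (idealι O.obj U a) : shf.obj (idealP O.obj U a) ⟶ _) := inferInstance
  have := (isFlat_iff_mono M).1 hM (shf.map (idealι O.obj U a))
  have hm : Mono (shf.map (idealι O.obj U a ▷ pre M)) := by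
    have e := NatIso.naturality_2 (tensShfLeft M) (idealι O.obj U a)
    change Mono ((tensorRight (pre M) ⋙ shf).map (idealι O.obj U a))
    rw [← e]
    have : Mono ((shf ⋙ tR M).map (idealι O.obj U a)) := this
    infer_instance
  have : (fgt : ModSite.Mod O ⥤ PreM O).PreservesMonomorphisms :=
    Functor.preservesMonomorphisms_of_isRightAdjoint _
  have h1 := injective_stalkHom_of_isLocalIso (shfU (idealP O.obj U a ⊗ pre M))
    ((isIso_shf_map_iff_isLocalIso _).1 inferInstance) x
  have h2 := injective_stalkHom (R := O.obj) x (fgt.map (shf.map (idealι O.obj U a ▷ pre M)))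
  intro p q hpq
  refine h1 (h2 ?_)
  obtain ⟨V, hV, p, rfl⟩ := exists_gm (R := O.obj) _ p
  obtain ⟨W, hW, q, rfl⟩ := exists_gm (R := O.obj) _ q
  rw [stalkHom_gm, stalkHom_gm] at hpq
  rw [stalkHom_gm, stalkHom_gm, stalkHom_gm, stalkHom_gm]
  have n0 : ∀ (V : Opens T) (p), (fgt.map (shf.map (idealι O.obj U a ▷ pre M))).app (op V)
      ((shfU (idealP O.obj U a ⊗ pre M)).app (op V) p) =
      (shfU (unitP O.obj ⊗ pre M)).app (op V) ((idealι O.obj U a ▷ pre M).app (op V) p) := fun V p =>
    congrArg (fun g => (g.app (op V)) p) (shfU_naturality (idealι O.obj U a ▷ pre M)).symm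
  rw [n0, n0, ← stalkHom_gm (R := O.obj) x (shfU _), ← stalkHom_gm (R := O.obj) x (shfU _), hpq]

/-- The two notions of flatness agree on a scheme. -/
theorem flatMod_of_isFlat {X : Scheme.{u}} (M : X.Modules) (hM : ModSite.IsFlat (O := X.sheaf) M) :
    FlatMod.IsFlat M :=
  fun x => flat_stalks_of_isFlat (O := X.sheaf) M hM x

end Converse

end Groth.Agent.DCK91
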