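import Groth.Agent.DCK91.LeftDer
import Groth.Agent.DCK91.Flat
import Groth.Agent.Mod48.KFlatSymm
import Groth.Agent.Mod48.KFlatResolution
import Mathlib.Algebra.Homology.DerivedCategory.Fractions
import Mathlib.Algebra.Homology.DerivedCategory.HomologySequence

/-!
Functors preserving short exact sequences with flat cokernel invert quasi-isomorphisms between
K-flat complexes with flat terms; resulting left derived functors.
-/

universe w w' v u u'

open CategoryTheory CategoryTheory.Limits Opposite

namespace Groth.Agent.DCK91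

open Groth.Agent.Mod48

section Cone

variable {A : Type u} [Category.{v} A] [Abelian A] [HasDerivedCategory.{w} A]

/-- A map of complexes is a quasi-isomorphism when its cone is acyclic. -/
lemma isIso_Q_map_iff_cone {K L : CochainComplex A ℤ} (φ : K ⟶ L) :
    IsIso (DerivedCategory.Q.map φ) ↔ (CochainComplex.mappingCone φ).Acyclic := by
  refine Iff.trans ((Pretriangulated.Triangle.isZero₃_iff_isIso₁ _
    (DerivedCategory.mappingCone_triangle_distinguished φ)).symm) ?_
  change IsZero (DerivedCategory.Q.obj (CochainComplex.mappingCone φ)) ↔ _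
  constructor
  · exact fun h i => (HomologicalComplex.exactAt_iff_isZero_homology _ i).2
      (((DerivedCategory.homologyFunctor A i).map_isZero h).of_iso
        ((DerivedCategory.homologyFunctorFactors A i).app _).symm)
  · intro h
    rw [IsZero.iff_id_eq_zero]
    have : IsIso (0 : DerivedCategory.Q.obj (CochainComplex.mappingCone φ) ⟶
        DerivedCategory.Q.obj (CochainComplex.mappingCone φ)) := by
      rw [DerivedCategory.isIso_iff]
      intro i
      exact isIso_of_source_target_iso_zero _
        ((((HomologicalComplex.exactAt_iff_isZero_homology _ i).1 (h i)).of_iso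
          ((DerivedCategory.homologyFunctorFactors A i).app _)).isoZero)
        ((((HomologicalComplex.exactAt_iff_isZero_homology _ i).1 (h i)).of_iso
          ((DerivedCategory.homologyFunctorFactors A i).app _)).isoZero)
    rw [← cancel_epi (0 : DerivedCategory.Q.obj (CochainComplex.mappingCone φ) ⟶
        DerivedCategory.Q.obj (CochainComplex.mappingCone φ)), zero_comp, comp_zero]

end Cone

variable {C : Type u} [SmallCategory C] {J : GrothendieckTopology C} {O : Sheaf J CommRingCat.{u}}

section Acyclic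

variable {B : Type u'} [Category.{v} B] [Abelian B] (G : ModSite.Mod O ⥤ B) [G.Additive]

/-- `G` preserves short exact sequences with flat cokernel. -/
def PreservesFlatSES : Prop :=
  ∀ S : ShortComplex (ModSite.Mod O), S.ShortExact → ModSite.IsFlat S.X₃ → (S.map G).ShortExact

variable {G}

lemma shortExact_cycles (K : CC O) (hac : K.Acyclic) (n : ℤ) :
    (ShortComplex.mk (K.iCycles n) (K.toCycles n (n + 1))
      (by rw [← cancel_mono (K.iCycles (n + 1))]; simp)).ShortExact where
  exact := ShortComplex.exact_of_f_is_kernel _ (KernelFork.IsLimit.ofι _ _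
    (fun {W} k hk => K.liftCycles k (n + 1) ((ComplexShape.up ℤ).next_eq' rfl) (by
      rw [← K.toCycles_i n (n + 1), ← Category.assoc, hk, zero_comp]))
    (fun {W} k hk => K.liftCycles_i _ _ _ _)
    (fun {W} k hk m hm => by rw [← cancel_mono (K.iCycles n), K.liftCycles_i]; exact hm))
  mono_f := inferInstanceAs (Mono (K.iCycles n))
  epi_g := by
    refine Preadditive.epi_of_isZero_cokernel' (CokernelCofork.ofπ (K.homologyπ (n + 1)) (K.toCycles_comp_homologyπ n (n + 1)))
      (K.homologyIsCokernel n (n + 1) ((ComplexShape.up ℤ).prev_eq' rfl)) ?_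
    exact (HomologicalComplex.exactAt_iff_isZero_homology _ _).1 (hac (n + 1))

lemma iCycles_toCycles (K : CC O) (n : ℤ) : K.iCycles n ≫ K.toCycles n (n + 1) = 0 := by
  rw [← cancel_mono (K.iCycles (n + 1))]; simp

/-- Such functors preserve acyclicity of K-flat complexes with flat terms. -/
lemma acyclic_map (hG : PreservesFlatSES G) (K : CC O) (hK : ModSite.IsKFlat K) (hac : K.Acyclic)
    (hfl : ∀ i, ModSite.IsFlat (K.X i)) :
    ((G.mapHomologicalComplex (ComplexShape.up ℤ)).obj K).Acyclic := fun n => by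
  rw [HomologicalComplex.exactAt_iff' _ (n - 1) n (n + 1) (by simp) (by simp)]
  have h := fun m => hG _ (shortExact_cycles K hac m) (isFlat_cycles K hK hac hfl (m + 1))
  let T : ShortComplex B := ShortComplex.mk (G.map (K.iCycles n)) (G.map (K.toCycles n (n + 1)))
    (by rw [← G.map_comp, iCycles_toCycles, G.map_zero])
  have hT : T.Exact := (h n).exact
  have hepi' : ∀ a b, a + 1 = b → Epi (G.map (K.toCycles a b)) := by
    rintro a b rfl
    exact (h a).epi_g
  have hepi : Epi (G.map (K.toCycles (n - 1) n)) := hepi' _ _ (sub_add_cancel n 1)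
  have hmono : Mono (G.map (K.iCycles (n + 1))) := (h (n + 1)).mono_f
  let S₁ : ShortComplex B := ShortComplex.mk (G.map (K.d (n - 1) n)) (G.map (K.toCycles n (n + 1)))
    (by rw [← G.map_comp, ← K.toCycles_i (n - 1) n, Category.assoc,
      iCycles_toCycles,
      comp_zero, G.map_zero])
  let φ : S₁ ⟶ T :=
    { τ₁ := G.map (K.toCycles (n - 1) n), τ₂ := 𝟙 _, τ₃ := 𝟙 _
      comm₁₂ := by simp [S₁, T, ← G.map_comp]
      comm₂₃ := by simp [S₁, T] }
  have : Epi φ.τ₁ := hepi
  have : IsIso φ.τ₂ := inferInstanceAs (IsIso (𝟙 _))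
  have : Mono φ.τ₃ := inferInstanceAs (Mono (𝟙 _))
  have h1 : S₁.Exact := (ShortComplex.exact_iff_of_epi_of_isIso_of_mono φ).2 hT
  let ψ : S₁ ⟶ ((G.mapHomologicalComplex (ComplexShape.up ℤ)).obj K).sc' (n - 1) n (n + 1) :=
    { τ₁ := 𝟙 _, τ₂ := 𝟙 _, τ₃ := G.map (K.iCycles (n + 1))
      comm₁₂ := (Category.id_comp _).trans (Category.comp_id _).symm
      comm₂₃ := (Category.id_comp _).trans
        ((congrArg G.map (K.toCycles_i n (n + 1)).symm).trans (G.map_comp _ _)) }
  have : Epi ψ.τ₁ := inferInstanceAs (Epi (𝟙 _))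
  have : IsIso ψ.τ₂ := inferInstanceAs (IsIso (𝟙 _))
  have : Mono ψ.τ₃ := hmono
  exact (ShortComplex.exact_iff_of_epi_of_isIso_of_mono ψ).1 h1

/-- Such functors preserve quasi-isomorphisms between K-flat complexes with flat terms. -/
lemma isIso_Q_map_G [HasDerivedCategory.{w} (ModSite.Mod O)] [HasDerivedCategory.{w'} B]
    (hG : PreservesFlatSES G) {K L : CC O} (φ : K ⟶ L) (hK : ModSite.IsKFlat K) (hL : ModSite.IsKFlat L)
    (hKf : ∀ i, ModSite.IsFlat (K.X i)) (hLf : ∀ i, ModSite.IsFlat (L.X i))
    (hφ : IsIso (DerivedCategory.Q.map φ)) :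
    IsIso (DerivedCategory.Q.map ((G.mapHomologicalComplex (ComplexShape.up ℤ)).map φ)) := by
  rw [isIso_Q_map_iff_cone] at hφ ⊢
  exact acyclic_of_iso (CochainComplex.mappingCone.mapHomologicalComplexIso φ G)
    (acyclic_map hG _ ((isKFlat_cone_two_out_of_three φ).1 hK hL) hφ (isFlat_cone_X φ hKf hLf))

end Acyclic

section Derived

variable (O) in
/-- K-flat complexes with flat terms, in the homotopy category. -/
def KFF : ObjectProperty (HomotopyCategory (ModSite.Mod O) (ComplexShape.up ℤ)) :=
  fun X => ∃ K : CC O, X = (HomotopyCategory.quotient _ _).obj K ∧ ModSite.IsKFlat K ∧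
    ∀ i, ModSite.IsFlat (K.X i)

lemma hasRes_KFF : HasRes (HomotopyCategory.quasiIso (ModSite.Mod O) (ComplexShape.up ℤ)) (KFF O) := by
  intro X
  obtain ⟨M, rfl⟩ := HomotopyCategory.quotient_obj_surjective X
  obtain ⟨K, q, hK, hf, hq, -⟩ := exists_resolution M
  exact ⟨_, (HomotopyCategory.quotient _ _).map q, ⟨K, rfl, hK, hf⟩,
    (HomotopyCategory.quotient_map_mem_quasiIso_iff q).2 hq⟩

variable {B : Type u'} [Category.{v} B] [Abelian B] [HasDerivedCategory.{w'} B]
  (G : ModSite.Mod O ⥤ B) [G.Additive]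

lemma inverts_KFF [HasDerivedCategory.{w} (ModSite.Mod O)] (hG : PreservesFlatSES G) :
    (W₀ (HomotopyCategory.quasiIso (ModSite.Mod O) (ComplexShape.up ℤ)) (KFF O)).IsInvertedBy
      ((KFF O).ι ⋙ G.mapHomotopyCategory (ComplexShape.up ℤ) ⋙ DerivedCategory.Qh) := by
  rintro ⟨_, K, rfl, hK, hKf⟩ ⟨_, L, rfl, hL, hLf⟩ f hf
  obtain ⟨φ, hφ⟩ := (HomotopyCategory.quotient (ModSite.Mod O) (ComplexShape.up ℤ)).map_surjective f.hom
  change IsIso (DerivedCategory.Qh.map ((G.mapHomotopyCategory (ComplexShape.up ℤ)).map f.hom))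
  have h0 : QuasiIso φ := by
    refine (HomotopyCategory.quotient_map_mem_quasiIso_iff φ).1 ?_
    rw [hφ]
    exact hf
  have h1 := isIso_Q_map_G hG φ hK hL hKf hLf ((DerivedCategory.isIso_Q_map_iff_quasiIso _ φ).2 h0)
  rw [← hφ, Functor.mapHomotopyCategory_map]
  rw [← NatIso.isIso_map_iff (DerivedCategory.quotientCompQhIso B)
    ((G.mapHomologicalComplex (ComplexShape.up ℤ)).map φ)] at h1
  exact h1

/-- The left derived functor exists. -/
theorem hasLeftDerived_of_preservesFlatSES [HasDerivedCategory.{w} (ModSite.Mod O)]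
    (hG : PreservesFlatSES G) :
    (G.mapHomotopyCategory (ComplexShape.up ℤ) ⋙ DerivedCategory.Qh).HasLeftDerivedFunctor
      (HomotopyCategory.quasiIso (ModSite.Mod O) (ComplexShape.up ℤ)) :=
  hasLeftDerived hasRes_KFF (inverts_KFF.{w} G hG)

/-- A left derived functor takes the value of the functor on K-flat complexes with flat terms. -/
theorem isIso_counit_KFF [HasDerivedCategory.{w} (ModSite.Mod O)] (hG : PreservesFlatSES G)
    (RF : DerivedCategory (ModSite.Mod O) ⥤ DerivedCategory B)
    (α : DerivedCategory.Qh ⋙ RF ⟶ G.mapHomotopyCategory (ComplexShape.up ℤ) ⋙ DerivedCategory.Qh)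
    (h : RF.IsLeftDerivedFunctor α (HomotopyCategory.quasiIso (ModSite.Mod O) (ComplexShape.up ℤ)))
    (K : CC O) (hK : ModSite.IsKFlat K) (hf : ∀ i, ModSite.IsFlat (K.X i)) :
    IsIso (α.app ((HomotopyCategory.quotient _ _).obj K)) :=
  have := h
  isIso_counit _ hasRes_KFF (inverts_KFF G hG) RF α ⟨K, rfl, hK, hf⟩

end Derived

/-- `- ⊗ M` preserves short exact sequences with flat cokernel. -/
lemma preservesFlatSES_tR (M : ModSite.Mod O) : PreservesFlatSES (tR M) :=
  fun S hS h => shortExact_map_tR S hS h M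

end Groth.Agent.DCK91
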