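import Groth.Agent.DCK91.PullMono
import Groth.Agent.DCK91.FlatAcyclic
import Groth.Agent.QReg14.BaseChange
import Groth.Prelude.Def_DDual2

/-!
The inverse image of modules on schemes preserves short exact sequences with flat cokernel; existence
of the derived inverse image.
-/

set_option autoImplicit false
set_option backward.isDefEq.respectTransparency.types false
set_option linter.style.haveILetI false

noncomputable section

universe u

open CategoryTheory Limits AlgebraicGeometry TopologicalSpace Opposite TensorProduct
open Groth.Agent.QC70

namespace Groth.Agent.DCK91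

variable {X Y : Scheme.{u}} (f : X ⟶ Y)

/-- The inverse image preserves short exact sequences with flat cokernel. -/
theorem shortExact_pullback (S : ShortComplex Y.Modules) (hS : S.ShortExact) (h3 : FlatMod.IsFlat S.X₃) :
    (S.map (Scheme.Modules.pullback f)).ShortExact := by
  haveI := hS.mono_f
  haveI := hS.epi_g
  haveI : (Scheme.Modules.pullback f).IsLeftAdjoint :=
    (Scheme.Modules.pullbackPushforwardAdjunction f).isLeftAdjoint
  refine { exact := ShortComplex.Exact.map_of_epi_of_preservesCokernel hS.exact _ hS.epi_g inferInstance
           mono_f := ?_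
           epi_g := inferInstanceAs (Epi ((Scheme.Modules.pullback f).map S.g)) }
  refine mono_pullback_map f S.f fun x => ?_
  letI := (f.stalkMap x).hom.toAlgebra
  have h3' : Module.Flat (Y.presheaf.stalk (f x)) (S.X₃.presheaf.stalk (f x)) := h3 (f x)
  have h1 := Groth.Agent.QReg14.lTensor_injective_of_flat_coker (stalkLinear S.f (f x)) (stalkLinear S.g (f x))
    (injective_stalkMapM_of_mono S.f (f x)) ((FlatMor68.PullbackDescent.epi_iff S.g).1 inferInstance (f x))
    (fun e => ⟨stalkMapM_exact S hS.exact (f x) e, by
      rintro ⟨d, rfl⟩
      change stalkMapM S.g (f x) (stalkMapM S.f (f x) d) = 0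
      rw [← stalkMapM_comp, S.zero, stalkMapM_zero]⟩) (X.presheaf.stalk x)
  exact (LinearMap.lTensor_inj_iff_rTensor_inj _ _).1 h1

/-- The inverse image, on the site of opens. -/
abbrev pullM : ModSite.Mod Y.sheaf ⥤ X.Modules := Scheme.Modules.pullback f

instance : (pullM f).Additive := inferInstanceAs (Scheme.Modules.pullback f).Additive

/-- The inverse image preserves short exact sequences with flat cokernel, site form. -/
theorem preservesFlatSES_pullback :
    PreservesFlatSES (pullM f) :=
  fun S hS h => shortExact_pullback f S hS (flatMod_of_isFlat S.X₃ h)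

/-- The derived inverse image exists. -/
theorem hasLpull : DCoh.HasLpull f :=
  @hasLeftDerived_of_preservesFlatSES _ _ _ Y.sheaf X.Modules _ _ (HasDerivedCategory.standard _) (pullM f) _
    (HasDerivedCategory.standard _) (preservesFlatSES_pullback f)

/-- `- ⊗ M`, on the site of opens. -/
abbrev tenM (M : X.Modules) : ModSite.Mod X.sheaf ⥤ X.Modules := DCoh.tensorRightMod M

instance (M : X.Modules) : (tenM M).Additive := inferInstanceAs (DCoh.tensorRightMod M).Additive

/-- `- ⊗ M` preserves short exact sequences with flat cokernel. -/
theorem preservesFlatSES_tenM (M : X.Modules) : PreservesFlatSES (tenM M) :=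
  fun S hS h => preservesFlatSES_tR (O := X.sheaf) M S hS h

/-- The derived tensor product with a module exists. -/
theorem hasLTensorMod (M : X.Modules) : DCoh.HasLTensorMod M :=
  @hasLeftDerived_of_preservesFlatSES _ _ _ X.sheaf X.Modules _ _ (HasDerivedCategory.standard _) (tenM M) _
    (HasDerivedCategory.standard _) (preservesFlatSES_tenM M)

end Groth.Agent.DCK91
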