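import Groth.Agent.DCK91.LpullKFlat
import Groth.Agent.SiteMod.PullTensorIso
import Groth.Agent.Mod48.MapTot
import Groth.Agent.Mod48.TcAssoc
import Groth.Prelude.Def_FSch6
import Mathlib.CategoryTheory.Functor.Derived.PointwiseLeftDerived

/-!
The derived inverse image of a derived tensor product.
-/

set_option autoImplicit false
set_option backward.isDefEq.respectTransparency.types false
set_option linter.style.haveILetI false

noncomputable section

universe u

open CategoryTheory Limits AlgebraicGeometry Opposite MonoidalCategory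
open Groth.Agent.Mod48
attribute [local instance] HasDerivedCategory.standard

namespace Groth.Agent.DCK91

variable {X Y : Scheme.{u}} (f : X ⟶ Y)

/-- The inverse image of modules, as a morphism of ringed sites. -/
abbrev rp : Y.Modules ⥤ X.Modules := (ModSite.RMor.ofScheme f).pull

section Transport

variable {A B : Type*} [Category* A] [Category* B] {T' : A ⥤ A ⥤ A} {T : B ⥤ B ⥤ B} {r p : A ⥤ B} (e : r ≅ p)
  (t : ∀ M N, r.obj ((T'.obj M).obj N) ≅ (T.obj (r.obj M)).obj (r.obj N))

/-- Transport of a comparison along an isomorphism of functors. -/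
def transBi (M N : A) : (T.obj (p.obj M)).obj (p.obj N) ≅ p.obj ((T'.obj M).obj N) :=
  (T.mapIso (e.app M).symm).app _ ≪≫ (T.obj (r.obj M)).mapIso (e.app N).symm ≪≫ (t M N).symm ≪≫ e.app _

lemma transBi_left {M M' : A} (g : M ⟶ M') (N : A)
    (ht : r.map ((T'.map g).app N) ≫ (t M' N).hom = (t M N).hom ≫ (T.map (r.map g)).app (r.obj N)) :
    (T.map (p.map g)).app (p.obj N) ≫ (transBi e t M' N).hom =
      (transBi e t M N).hom ≫ p.map ((T'.map g).app N) := by
  have h1 : (T.map (p.map g)).app (p.obj N) ≫ (T.map (e.inv.app M')).app (p.obj N) =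
      (T.map (e.inv.app M)).app (p.obj N) ≫ (T.map (r.map g)).app (p.obj N) := by
    rw [← NatTrans.comp_app, ← T.map_comp, ← NatTrans.comp_app, ← T.map_comp, e.inv.naturality]
  have h2 : (T.map (r.map g)).app (p.obj N) ≫ (T.obj (r.obj M')).map (e.inv.app N) =
      (T.obj (r.obj M)).map (e.inv.app N) ≫ (T.map (r.map g)).app (r.obj N) :=
    ((T.map (r.map g)).naturality (e.inv.app N)).symm
  have h3 : (T.map (r.map g)).app (r.obj N) ≫ (t M' N).inv = (t M N).inv ≫ r.map ((T'.map g).app N) := by
    rw [Iso.eq_inv_comp, ← reassoc_of% ht, Iso.hom_inv_id, Category.comp_id]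
  simp only [transBi, Iso.trans_hom, Iso.app_hom, Functor.mapIso_hom, Iso.symm_hom, Iso.app_inv, Category.assoc,
    reassoc_of% h1, reassoc_of% h2, reassoc_of% h3, e.hom.naturality]

lemma transBi_right (M : A) {N N' : A} (g : N ⟶ N')
    (ht : r.map ((T'.obj M).map g) ≫ (t M N').hom = (t M N).hom ≫ (T.obj (r.obj M)).map (r.map g)) :
    (T.obj (p.obj M)).map (p.map g) ≫ (transBi e t M N').hom =
      (transBi e t M N).hom ≫ p.map ((T'.obj M).map g) := by
  have h1 : (T.obj (p.obj M)).map (p.map g) ≫ (T.map (e.inv.app M)).app (p.obj N') =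
      (T.map (e.inv.app M)).app (p.obj N) ≫ (T.obj (r.obj M)).map (p.map g) :=
    (T.map (e.inv.app M)).naturality (p.map g)
  have h2 : (T.obj (r.obj M)).map (p.map g) ≫ (T.obj (r.obj M)).map (e.inv.app N') =
      (T.obj (r.obj M)).map (e.inv.app N) ≫ (T.obj (r.obj M)).map (r.map g) := by
    rw [← Functor.map_comp, ← Functor.map_comp, e.inv.naturality]
  have h3 : (T.obj (r.obj M)).map (r.map g) ≫ (t M N').inv = (t M N).inv ≫ r.map ((T'.obj M).map g) := by
    rw [Iso.eq_inv_comp, ← reassoc_of% ht, Iso.hom_inv_id, Category.comp_id]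
  simp only [transBi, Iso.trans_hom, Iso.app_hom, Functor.mapIso_hom, Iso.symm_hom, Iso.app_inv, Category.assoc,
    reassoc_of% h1, reassoc_of% h2, reassoc_of% h3, e.hom.naturality]

end Transport

/-- The comparison for the site-theoretic inverse image. -/
def rpTens (M N : Y.Modules) : (rp f).obj ((DCoh.tensorBi.obj M).obj N) ≅
    (DCoh.tensorBi.obj ((rp f).obj M)).obj ((rp f).obj N) :=
  (SiteMod.pullTensIso (ModSite.RMor.ofScheme f) (N : ModSite.Mod Y.sheaf)).app M

/-- The inverse image of a tensor product. -/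
def pullTensBi (M N : Y.Modules) :
    (DCoh.tensorBi.obj ((Scheme.Modules.pullback f).obj M)).obj ((Scheme.Modules.pullback f).obj N) ≅
      (Scheme.Modules.pullback f).obj ((DCoh.tensorBi.obj M).obj N) :=
  transBi (ModSite.RMor.ofSchemePull f) (rpTens f) M N

lemma pullTens_left {M M' : Y.Modules} (g : M ⟶ M') (N : Y.Modules) :
    (DCoh.tensorBi.map ((Scheme.Modules.pullback f).map g)).app ((Scheme.Modules.pullback f).obj N) ≫
        (pullTensBi f M' N).hom =
      (pullTensBi f M N).hom ≫ (Scheme.Modules.pullback f).map ((DCoh.tensorBi.map g).app N) :=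
  transBi_left _ (rpTens f) g N (SiteMod.pullTensHom_natural_left (ModSite.RMor.ofScheme f) g N)

lemma pullTens_right (M : Y.Modules) {N N' : Y.Modules} (g : N ⟶ N') :
    (DCoh.tensorBi.obj ((Scheme.Modules.pullback f).obj M)).map ((Scheme.Modules.pullback f).map g) ≫
        (pullTensBi f M N').hom =
      (pullTensBi f M N).hom ≫ (Scheme.Modules.pullback f).map ((DCoh.tensorBi.obj M).map g) :=
  transBi_right _ (rpTens f) M g (SiteMod.pullTensHom_natural_right (ModSite.RMor.ofScheme f) M g)

/-- The inverse image of a tensor product of complexes. -/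
theorem nonempty_pullTotIso (E L : CochainComplex Y.Modules ℤ) :
    Nonempty ((DCoh.tensorCx.obj (((Scheme.Modules.pullback f).mapHomologicalComplex (ComplexShape.up ℤ)).obj E)).obj
        (((Scheme.Modules.pullback f).mapHomologicalComplex (ComplexShape.up ℤ)).obj L) ≅
      ((Scheme.Modules.pullback f).mapHomologicalComplex (ComplexShape.up ℤ)).obj ((DCoh.tensorCx.obj E).obj L)) := by
  have := (Scheme.Modules.pullbackPushforwardAdjunction f).leftAdjoint_preservesColimits
  have : PreservesColimitsOfSize.{u, u} (Scheme.Modules.pullback f) := this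
  have : PreservesColimitsOfSize.{0, 0} (Scheme.Modules.pullback f) := preservesColimitsOfSize_shrink.{0, u, 0, u} _
  exact nonempty_mapTotIso (DCoh.tensorBi (X := Y)) (DCoh.tensorBi (X := X))
    (Scheme.Modules.pullback f) (Scheme.Modules.pullback f) (Scheme.Modules.pullback f) (pullTensBi f)
    (fun g N => pullTens_left f g N) (fun M _ _ g => pullTens_right f M g) E L

/-- The value of the derived tensor product with a K-flat complex. -/
theorem nonempty_ltcIso (L : CochainComplex X.Modules ℤ) (hL : DCoh.IsKFlat L) [DCoh.HasLTensorCx L]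
    (E : CochainComplex X.Modules ℤ) :
    Nonempty ((DCoh.LTensorCx L).obj (DerivedCategory.Q.obj E) ≅
      DerivedCategory.Q.obj ((DCoh.tensorCx.obj E).obj L)) := by
  have hF : (HomologicalComplex.quasiIso X.Modules (ComplexShape.up ℤ)).IsInvertedBy (DCoh.tensorCxQ L) := by
    intro F F' φ hφ
    exact (DerivedCategory.isIso_Q_map_iff_quasiIso X.Modules _).2
      (quasiIso_right (O := X.sheaf) L hL φ ((HomologicalComplex.mem_quasiIso_iff φ).1 hφ))
  have h : (DCoh.LTensorCx L).IsLeftDerivedFunctor ((DCoh.tensorCxQ L).totalLeftDerivedCounit DerivedCategory.Q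
      (HomologicalComplex.quasiIso X.Modules (ComplexShape.up ℤ))) (HomologicalComplex.quasiIso X.Modules (ComplexShape.up ℤ)) :=
    inferInstance
  have := Functor.isIso_of_isLeftDerivedFunctor_of_inverts (L := DerivedCategory.Q) (DCoh.LTensorCx L)
    ((DCoh.tensorCxQ L).totalLeftDerivedCounit DerivedCategory.Q
      (HomologicalComplex.quasiIso X.Modules (ComplexShape.up ℤ))) hF
  exact ⟨(asIso ((DCoh.tensorCxQ L).totalLeftDerivedCounit DerivedCategory.Q
      (HomologicalComplex.quasiIso X.Modules (ComplexShape.up ℤ)))).app E⟩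

/-- The derived inverse image commutes with the derived tensor product. -/
theorem Lpull_LTensor [DCoh.HasLpull f] (L : CochainComplex Y.Modules ℤ) (hL : DCoh.IsKFlat L) [DCoh.HasLTensorCx L]
    [DCoh.HasLTensorCx (((Scheme.Modules.pullback f).mapHomologicalComplex (ComplexShape.up ℤ)).obj L)] (K : DCoh.D Y) :
    Nonempty ((DCoh.Lpull f).obj ((DCoh.LTensorCx L).obj K) ≅
      (DCoh.LTensorCx (((Scheme.Modules.pullback f).mapHomologicalComplex (ComplexShape.up ℤ)).obj L)).obj
        ((DCoh.Lpull f).obj K)) := by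
  let K₀ : CochainComplex Y.Modules ℤ := DerivedCategory.Q.objPreimage K
  obtain ⟨E, p, hE, -, hp, -⟩ := exists_resolution (O := Y.sheaf) K₀
  have hp' : IsIso (DerivedCategory.Q.map (C := CochainComplex Y.Modules ℤ) p) :=
    (DerivedCategory.isIso_Q_map_iff_quasiIso Y.Modules p).2 hp
  let e : DerivedCategory.Q.obj (E : CochainComplex Y.Modules ℤ) ≅ K :=
    @asIso _ _ _ _ _ hp' ≪≫ DerivedCategory.Q.objObjPreimageIso K
  obtain ⟨a⟩ := nonempty_ltcIso L hL E
  obtain ⟨b⟩ := nonempty_lpullIso f _ (isKFlat_tc (O := Y.sheaf) hE hL)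
  obtain ⟨c⟩ := nonempty_pullTotIso f E L
  obtain ⟨d⟩ := nonempty_lpullIso f E hE
  obtain ⟨a'⟩ := nonempty_ltcIso _ (isKFlat_pullback f L hL)
    (((Scheme.Modules.pullback f).mapHomologicalComplex (ComplexShape.up ℤ)).obj E)
  exact ⟨(DCoh.Lpull f).mapIso ((DCoh.LTensorCx L).mapIso e.symm ≪≫ a) ≪≫ b ≪≫
    DerivedCategory.Q.mapIso c.symm ≪≫ a'.symm ≪≫
    (DCoh.LTensorCx _).mapIso (d.symm ≪≫ (DCoh.Lpull f).mapIso e)⟩

end Groth.Agent.DCK91
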