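import Mathlib.CategoryTheory.Functor.Derived.LeftDerived
import Mathlib.CategoryTheory.Localization.CalculusOfFractions
import Mathlib.CategoryTheory.Localization.LocalizerMorphism
import Mathlib.CategoryTheory.ObjectProperty.FullSubcategory
import Mathlib.CategoryTheory.Localization.Composition

/-!
Left derived functors through a class of adapted objects, when the weak equivalences have a calculus
of right fractions.
-/

universe v₁ v₂ v₃ u₁ u₂ u₃

open CategoryTheory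

namespace Groth.Agent.DCK91

variable {C : Type u₁} [Category.{v₁} C] {D : Type u₂} [Category.{v₂} D] {H : Type u₃} [Category.{v₃} H]
  (L : C ⥤ D) (W : MorphismProperty C) [L.IsLocalization W] [W.HasRightCalculusOfFractions]
  (P : ObjectProperty C)

/-- `P` contains enough objects to resolve every object on the left. -/
def HasRes : Prop := ∀ X : C, ∃ (Q : C) (q : Q ⟶ X), P Q ∧ W q

variable {W P}

/-- The weak equivalences between adapted objects. -/
abbrev W₀ (W : MorphismProperty C) (P : ObjectProperty C) : MorphismProperty P.FullSubcategory :=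
  W.inverseImage P.ι

lemma W₀_hasRightCalculus (hP : HasRes W P) : (W₀ W P).HasRightCalculusOfFractions where
  id_mem X := W.id_mem X.obj
  comp_mem f g hf hg := W.comp_mem _ _ hf hg
  exists_rightFraction X Y φ := by
    obtain ⟨ψ, hψ⟩ := MorphismProperty.HasRightCalculusOfFractions.exists_rightFraction
      (MorphismProperty.LeftFraction.mk (W := W) φ.f.hom φ.s.hom φ.hs)
    obtain ⟨Q, q, hQ, hq⟩ := hP ψ.X'
    refine ⟨MorphismProperty.RightFraction.mk (X' := ⟨Q, hQ⟩) (ObjectProperty.homMk (q ≫ ψ.s))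
      (W.comp_mem _ _ hq ψ.hs) (ObjectProperty.homMk (q ≫ ψ.f)), ?_⟩
    ext
    change (q ≫ ψ.s) ≫ φ.f.hom = (q ≫ ψ.f) ≫ φ.s.hom
    rw [Category.assoc, Category.assoc, hψ]
  ext X Y Y' f₁ f₂ s hs h := by
    obtain ⟨X', t, ht, e⟩ := MorphismProperty.HasRightCalculusOfFractions.ext f₁.hom f₂.hom s.hom hs
      (congrArg (fun g => g.hom) h)
    obtain ⟨Q, q, hQ, hq⟩ := hP X'
    refine ⟨⟨Q, hQ⟩, ObjectProperty.homMk (q ≫ t), W.comp_mem _ _ hq ht, ?_⟩
    ext
    change (q ≫ t) ≫ f₁.hom = (q ≫ t) ≫ f₂.hom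
    rw [Category.assoc, Category.assoc, e]

/-- Adapted objects localize to the whole localized category. -/
lemma isLocalization_ι_comp (hP : HasRes W P) : (P.ι ⋙ L).IsLocalization (W₀ W P) := by
  have := W₀_hasRightCalculus hP
  have hinv : (W₀ W P).IsInvertedBy (P.ι ⋙ L) := fun _ _ f hf => Localization.inverts L W f.hom hf
  let Q₀ := (W₀ W P).Q
  let K := Localization.lift (P.ι ⋙ L) hinv Q₀
  let e : Q₀ ⋙ K ≅ P.ι ⋙ L := Localization.fac (P.ι ⋙ L) hinv Q₀
  have hfull : ∀ (X Y : P.FullSubcategory) (g : L.obj X.obj ⟶ L.obj Y.obj),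
      ∃ φ : (W₀ W P).RightFraction X Y, L.map φ.s.hom ≫ g = L.map φ.f.hom := by
    intro X Y g
    obtain ⟨φ, hφ⟩ := Localization.exists_rightFraction L W g
    obtain ⟨Q, q, hQ, hq⟩ := hP φ.X'
    refine ⟨MorphismProperty.RightFraction.mk (X' := ⟨Q, hQ⟩) (ObjectProperty.homMk (q ≫ φ.s))
      (W.comp_mem _ _ hq φ.hs) (ObjectProperty.homMk (q ≫ φ.f)), ?_⟩
    change L.map (q ≫ φ.s) ≫ g = L.map (q ≫ φ.f)
    rw [hφ, L.map_comp, L.map_comp, Category.assoc, MorphismProperty.RightFraction.map_s_comp_map]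
  have := Localization.essSurj Q₀ (W₀ W P)
  have : K.EssSurj := ⟨fun Z => by
    obtain ⟨X, ⟨i⟩⟩ := (Localization.essSurj L W).mem_essImage Z
    obtain ⟨R, r, hR, hr⟩ := hP X
    exact ⟨Q₀.obj ⟨R, hR⟩, ⟨e.app ⟨R, hR⟩ ≪≫ Localization.isoOfHom L W r hr ≪≫ i⟩⟩⟩
  have hK : ∀ {X Y : P.FullSubcategory} (φ : (W₀ W P).RightFraction X Y),
      L.map φ.s.hom ≫ e.inv.app X ≫ K.map (φ.map Q₀ (Localization.inverts Q₀ _)) ≫ e.hom.app Y =
        L.map φ.f.hom := fun {X Y} φ => by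
    have h1 := e.inv.naturality φ.s
    dsimp at h1
    rw [reassoc_of% h1, ← K.map_comp_assoc, MorphismProperty.RightFraction.map_s_comp_map]
    exact NatIso.naturality_1 e φ.f
  have : K.Full := by
    refine ⟨fun {A B} g => ?_⟩
    let X := Q₀.objPreimage A
    let Y := Q₀.objPreimage B
    let iX : Q₀.obj X ≅ A := Q₀.objObjPreimageIso A
    let iY : Q₀.obj Y ≅ B := Q₀.objObjPreimageIso B
    obtain ⟨φ, hφ⟩ := hfull X Y (e.inv.app X ≫ K.map iX.hom ≫ g ≫ K.map iY.inv ≫ e.hom.app Y)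
    refine ⟨iX.inv ≫ φ.map Q₀ (Localization.inverts Q₀ _) ≫ iY.hom, ?_⟩
    have : IsIso (L.map φ.s.hom) := Localization.inverts L W _ φ.hs
    have h2 := (cancel_epi (L.map φ.s.hom)).1 ((hK φ).trans hφ.symm)
    rw [cancel_epi] at h2
    simp only [← Category.assoc, cancel_mono] at h2
    rw [K.map_comp, K.map_comp, h2]
    simp
  have : K.Faithful := by
    refine ⟨fun {A B f g} hfg => ?_⟩
    let X := Q₀.objPreimage A
    let Y := Q₀.objPreimage B
    let iX : Q₀.obj X ≅ A := Q₀.objObjPreimageIso A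
    let iY : Q₀.obj Y ≅ B := Q₀.objObjPreimageIso B
    rw [← cancel_epi iX.hom, ← cancel_mono iY.inv]
    obtain ⟨φ, hφ⟩ := Localization.exists_rightFraction Q₀ (W₀ W P) ((iX.hom ≫ f) ≫ iY.inv)
    obtain ⟨ψ, hψ⟩ := Localization.exists_rightFraction Q₀ (W₀ W P) ((iX.hom ≫ g) ≫ iY.inv)
    have hK' : K.map (φ.map Q₀ (Localization.inverts Q₀ _)) = K.map (ψ.map Q₀ (Localization.inverts Q₀ _)) := by
      rw [← hφ, ← hψ]
      simp only [Functor.map_comp, hfg]
    rw [hφ, hψ]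
    obtain ⟨θ, hθ⟩ := MorphismProperty.HasRightCalculusOfFractions.exists_rightFraction
      (MorphismProperty.LeftFraction.mk (W := W₀ W P) φ.s ψ.s ψ.hs)
    change θ.s ≫ φ.s = θ.f ≫ ψ.s at hθ
    have hs := θ.hs
    have : IsIso (Q₀.map θ.s) := Localization.inverts Q₀ _ _ hs
    have : IsIso (Q₀.map φ.s) := Localization.inverts Q₀ _ _ φ.hs
    rw [← cancel_epi (Q₀.map φ.s), ← cancel_epi (Q₀.map θ.s), MorphismProperty.RightFraction.map_s_comp_map,
      ← Category.assoc, ← Q₀.map_comp, ← Q₀.map_comp, hθ, Q₀.map_comp, Q₀.map_comp, Category.assoc,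
      MorphismProperty.RightFraction.map_s_comp_map]
    have hL : L.map (θ.s ≫ φ.f).hom = L.map (θ.f ≫ ψ.f).hom := by
      change L.map (θ.s.hom ≫ φ.f.hom) = L.map (θ.f.hom ≫ ψ.f.hom)
      rw [L.map_comp, L.map_comp, ← hK φ, ← hK ψ, hK', ← L.map_comp_assoc, ← L.map_comp_assoc]
      exact congrArg (fun t => L.map t ≫ _) (congrArg (fun t => t.hom) hθ)
    obtain ⟨Z, t, ht, h3⟩ := (MorphismProperty.map_eq_iff_precomp L W _ _).1 hL
    obtain ⟨R, r, hR, hr⟩ := hP Z
    rw [← Q₀.map_comp, ← Q₀.map_comp, MorphismProperty.map_eq_iff_precomp Q₀ (W₀ W P)]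
    refine ⟨⟨R, hR⟩, ObjectProperty.homMk (r ≫ t), W.comp_mem _ _ hr ht, ?_⟩
    ext
    change (r ≫ t) ≫ (θ.s ≫ φ.f).hom = (r ≫ t) ≫ (θ.f ≫ ψ.f).hom
    rw [Category.assoc, Category.assoc, h3]
  have : K.IsEquivalence := { }
  exact Functor.IsLocalization.of_equivalence_target Q₀ (W₀ W P) (P.ι ⋙ L) K.asEquivalence e

variable {F : C ⥤ H}

/-- Left derived functors exist and are computed on adapted objects. -/
theorem exists_leftDerived (hP : HasRes W P) (hF : (W₀ W P).IsInvertedBy (P.ι ⋙ F)) :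
    ∃ (G : D ⥤ H) (α : L ⋙ G ⟶ F), G.IsLeftDerivedFunctor α W ∧ ∀ X, P X → IsIso (α.app X) := by
  have := isLocalization_ι_comp L hP
  let G := Localization.lift (P.ι ⋙ F) hF (P.ι ⋙ L)
  let e : (P.ι ⋙ L) ⋙ G ≅ P.ι ⋙ F := Localization.fac (P.ι ⋙ F) hF (P.ι ⋙ L)
  choose R r hR hr using hP
  have hi : ∀ X, IsIso (L.map (r X)) := fun X => Localization.inverts L W _ (hr X)
  let ε : ∀ Q : P.FullSubcategory, G.obj (L.obj Q.obj) ≅ F.obj Q.obj := fun Q => e.app Q
  have hε : ∀ {Q Q' : P.FullSubcategory} (f : Q ⟶ Q'),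
      G.map (L.map f.hom) ≫ (ε Q').hom = (ε Q).hom ≫ F.map f.hom := fun f => e.hom.naturality f
  let α : L ⋙ G ⟶ F :=
    { app := fun X => G.map (inv (L.map (r X))) ≫ (ε ⟨R X, hR X⟩).hom ≫ F.map (r X)
      naturality := fun X Y f => by
        obtain ⟨φ, hφ⟩ := MorphismProperty.HasRightCalculusOfFractions.exists_rightFraction
          (MorphismProperty.LeftFraction.mk (W := W) (r X ≫ f) (r Y) (hr Y))
        obtain ⟨T, t, hT, ht⟩ : ∃ (T : C) (t : T ⟶ φ.X'), P T ∧ W t := ⟨_, r _, hR _, hr _⟩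
        change φ.s ≫ r X ≫ f = φ.f ≫ r Y at hφ
        have hw : W (t ≫ φ.s) := W.comp_mem _ _ ht φ.hs
        have : IsIso (L.map (t ≫ φ.s)) := Localization.inverts L W _ hw
        have n1 := hε (ObjectProperty.homMk (t ≫ φ.s) : (⟨T, hT⟩ : P.FullSubcategory) ⟶ ⟨R X, hR X⟩)
        have n2 := hε (ObjectProperty.homMk (t ≫ φ.f) : (⟨T, hT⟩ : P.FullSubcategory) ⟶ ⟨R Y, hR Y⟩)
        dsimp at n1 n2
        change G.map (L.map f) ≫ G.map (inv (L.map (r Y))) ≫ (ε ⟨R Y, hR Y⟩).hom ≫ F.map (r Y) =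
          (G.map (inv (L.map (r X))) ≫ (ε ⟨R X, hR X⟩).hom ≫ F.map (r X)) ≫ F.map f
        rw [← cancel_epi (G.map (L.map (r X))), ← cancel_epi (G.map (L.map (t ≫ φ.s)))]
        simp only [Category.assoc, ← G.map_comp_assoc, IsIso.hom_inv_id, Category.comp_id]
        rw [reassoc_of% n1, ← F.map_comp, ← F.map_comp, Category.assoc t, hφ,
          ← Category.assoc t, F.map_comp, ← reassoc_of% n2, ← L.map_comp_assoc (r X), ← L.map_comp_assoc,
          Category.assoc t, hφ, ← Category.assoc t, L.map_comp (t ≫ φ.f), Category.assoc, IsIso.hom_inv_id,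
          Category.comp_id] }
  have hα : ∀ Q : P.FullSubcategory, α.app Q.obj = (ε Q).hom := fun Q => by
    change G.map (inv (L.map (r Q.obj))) ≫ (ε ⟨R Q.obj, hR _⟩).hom ≫ F.map (r Q.obj) = _
    have n := hε (ObjectProperty.homMk (r Q.obj) : (⟨R Q.obj, hR _⟩ : P.FullSubcategory) ⟶ Q)
    dsimp at n
    rw [← n, ← G.map_comp_assoc, IsIso.inv_hom_id]
    simp
  refine ⟨G, α, ⟨⟨⟨?_⟩⟩⟩, fun X hX => by rw [hα ⟨X, hX⟩]; infer_instance⟩
  let τ : ∀ E : Functor.RightExtension L F, E.left ⟶ G := fun E =>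
    letI : Localization.Lifting (P.ι ⋙ L) (W₀ W P) ((P.ι ⋙ L) ⋙ E.left) E.left := ⟨Iso.refl _⟩
    letI : Localization.Lifting (P.ι ⋙ L) (W₀ W P) ((P.ι ⋙ L) ⋙ G) G := ⟨Iso.refl _⟩
    Localization.liftNatTrans (P.ι ⋙ L) (W₀ W P) ((P.ι ⋙ L) ⋙ E.left) ((P.ι ⋙ L) ⋙ G) E.left G
      (Functor.whiskerLeft P.ι E.hom ≫ e.inv)
  have hτ : ∀ (E : Functor.RightExtension L F) (Q : P.FullSubcategory),
      (τ E).app (L.obj Q.obj) = E.hom.app Q.obj ≫ (ε Q).inv := fun E Q => by
    letI : Localization.Lifting (P.ι ⋙ L) (W₀ W P) ((P.ι ⋙ L) ⋙ E.left) E.left := ⟨Iso.refl _⟩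
    letI : Localization.Lifting (P.ι ⋙ L) (W₀ W P) ((P.ι ⋙ L) ⋙ G) G := ⟨Iso.refl _⟩
    refine (Localization.liftNatTrans_app (P.ι ⋙ L) (W₀ W P) _ _ E.left G _ Q).trans ?_
    exact (Category.id_comp _).trans (Category.comp_id _)
  refine Limits.IsTerminal.ofUniqueHom (fun E => CostructuredArrow.homMk (τ E) ?_) fun E m => ?_
  · ext X
    change (τ E).app (L.obj X) ≫ α.app X = E.hom.app X
    have : IsIso (E.left.map (L.map (r X))) := inferInstance
    rw [← cancel_epi (E.left.map (L.map (r X))), (τ E).naturality_assoc, hτ E ⟨R X, hR X⟩, Category.assoc]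
    have nα : G.map (L.map (r X)) ≫ α.app X = α.app (R X) ≫ F.map (r X) := α.naturality (r X)
    rw [nα, hα ⟨R X, hR X⟩, Iso.inv_hom_id_assoc]
    exact (E.hom.naturality (r X)).symm
  · apply CostructuredArrow.hom_ext
    refine Localization.natTrans_ext (P.ι ⋙ L) (W₀ W P) fun Q => ?_
    have hm : m.left.app (L.obj Q.obj) ≫ α.app Q.obj = E.hom.app Q.obj :=
      congr_app (CostructuredArrow.w m) Q.obj
    change m.left.app (L.obj Q.obj) = (τ E).app (L.obj Q.obj)
    refine Eq.trans ?_ (hτ E Q).symm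
    refine (Iso.eq_comp_inv (ε Q)).2 ?_
    exact (congrArg (m.left.app (L.obj Q.obj) ≫ ·) (hα Q).symm).trans hm

/-- Existence of the left derived functor. -/
theorem hasLeftDerived (hP : HasRes W P) (hF : (W₀ W P).IsInvertedBy (P.ι ⋙ F)) :
    F.HasLeftDerivedFunctor W := by
  obtain ⟨G, α, h, -⟩ := exists_leftDerived W.Q hP hF
  exact Functor.HasLeftDerivedFunctor.mk' (LF := G) (α := α)

/-- Any left derived functor takes the value of the functor on adapted objects. -/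
theorem isIso_counit (hP : HasRes W P) (hF : (W₀ W P).IsInvertedBy (P.ι ⋙ F)) (G : D ⥤ H)
    (α : L ⋙ G ⟶ F) [G.IsLeftDerivedFunctor α W] {X : C} (hX : P X) : IsIso (α.app X) := by
  obtain ⟨G', α', h, hi⟩ := exists_leftDerived L hP hF
  have := hi X hX
  rw [← G'.leftDerived_fac_app α' W G α X]
  have : IsIso (G'.leftDerivedLift α' W G α) :=
    (Functor.isLeftDerivedFunctor_iff_isIso_leftDerivedLift G' α' W G α).1 inferInstance
  infer_instance

end Groth.Agent.DCK91
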