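import Groth.Agent.QC70.Sky
import Groth.Agent.QC70.CohOps
import Groth.Agent.FlatMor68.PullbackDescent
import Mathlib.Algebra.Module.CharacterModule
import Mathlib.Algebra.Category.ModuleCat.Presheaf.EpiMono
import Mathlib.Topology.Sheaves.SheafOfFunctions

/-!
Skyscraper modules of arbitrary stalk, and a criterion for the inverse image of a monomorphism to be
a monomorphism.
-/

set_option autoImplicit false
set_option backward.isDefEq.respectTransparency.types false
set_option linter.style.haveILetI false

noncomputable section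

universe u

open CategoryTheory Limits AlgebraicGeometry TopologicalSpace Opposite TensorProduct
open Groth.Agent.QC70

namespace Groth.Agent.DCK91

variable {X : Scheme.{u}} (x : X) (E : Type u) [AddCommGroup E] [Module (X.presheaf.stalk x) E]

/-- Sections of the skyscraper. -/
abbrev SkyS (U : X.Opens) : Type u := ∀ y : U, PLift (y.1 = x) → E

/-- The skyscraper presheaf of groups. -/
def skyGrp : X.Opensᵒᵖ ⥤ AddCommGrpCat.{u} where
  obj U := AddCommGrpCat.of (SkyS x E U.unop)
  map {U V} i := AddCommGrpCat.ofHom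
    { toFun := fun f y h => f ⟨y.1, i.unop.le y.2⟩ h
      map_zero' := rfl
      map_add' := fun _ _ => rfl }
  map_id _ := rfl
  map_comp _ _ := rfl

/-- The germ at `x` as a ring map. -/
abbrev gx (U : X.Opens) (hx : x ∈ U) : Γ(X, U) →+* X.presheaf.stalk x := (X.presheaf.germ U x hx).hom

instance skyGrpModule (U : X.Opensᵒᵖ) : Module (X.ringCatSheaf.obj.obj U) ((skyGrp x E).obj U) where
  smul r f := fun y h => gx x U.unop (h.down ▸ y.2) r • f y h
  one_smul f := funext fun y => funext fun h => by
    exact (congrArg (· • f y h) (map_one (gx x U.unop (h.down ▸ y.2)))).trans (one_smul _ _)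
  mul_smul r s f := funext fun y => funext fun h => by
    exact (congrArg (· • f y h) (map_mul (gx x U.unop (h.down ▸ y.2)) r s)).trans (mul_smul _ _ _)
  smul_zero r := funext fun y => funext fun h => smul_zero _
  smul_add r f g := funext fun y => funext fun h => smul_add _ _ _
  add_smul r s f := funext fun y => funext fun h => by
    exact (congrArg (· • f y h) (map_add (gx x U.unop (h.down ▸ y.2)) r s)).trans (add_smul _ _ _)
  zero_smul f := funext fun y => funext fun h => by
    exact (congrArg (· • f y h) (map_zero (gx x U.unop (h.down ▸ y.2)))).trans (zero_smul _ _)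

/-- The skyscraper module. -/
def skyE : X.Modules where
  val := PresheafOfModules.ofPresheaf (R := X.ringCatSheaf.obj) (skyGrp x E) fun {U V} i r f =>
    funext fun y => funext fun h => by
      change gx x U.unop (h.down ▸ i.unop.le y.2) r • f ⟨y.1, i.unop.le y.2⟩ h =
        gx x V.unop (h.down ▸ y.2) (X.presheaf.map i r) • f ⟨y.1, i.unop.le y.2⟩ h
      exact congrArg (· • f ⟨y.1, i.unop.le y.2⟩ h)
        (X.presheaf.germ_res_apply i.unop x (h.down ▸ y.2) r).symm
  isSheaf := by
    rw [Presheaf.isSheaf_iff_isSheaf_forget _ _ (forget AddCommGrpCat.{u})]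
    exact TopCat.Presheaf.toTypes_isSheaf (X := (X : TopCat.{u})) fun y : X => (PLift (y = x) → E)

/-- The value at `x` of a section of the skyscraper. -/
def valAt {U : X.Opens} (hx : x ∈ U) : Γ(skyE x E, U) →+ E where
  toFun f := (show SkyS x E U from f) ⟨x, hx⟩ ⟨rfl⟩
  map_zero' := rfl
  map_add' _ _ := rfl

variable {x E}

lemma valAt_smul {U : X.Opens} (hx : x ∈ U) (r : Γ(X, U)) (f : Γ(skyE x E, U)) :
    valAt x E hx (r • f) = gx x U hx r • valAt x E hx f := rfl

lemma valAt_res {U V : X.Opens} (h : V ≤ U) (hx : x ∈ V) (f : Γ(skyE x E, U)) :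
    valAt x E hx (res (skyE x E) h f) = valAt x E (h hx) f := rfl

lemma bijective_valAt {U : X.Opens} (hx : x ∈ U) : Function.Bijective (valAt x E hx) := by
  refine ⟨fun f g h => ?_, fun e => ⟨(show SkyS x E U from fun _ _ => e), rfl⟩⟩
  refine funext fun y => funext fun k => ?_
  obtain ⟨y, hy⟩ := y
  obtain ⟨rfl : y = x⟩ := k
  exact h

variable (x E)

theorem isSky_skyE : IsSky (skyE x E) x where
  subsingleton W hW := ⟨fun f g => funext fun y => funext fun k => absurd (k.down ▸ y.2) hW⟩
  bijective_res {V W} h hx := by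
    refine ⟨fun f g e => (bijective_valAt (h hx)).1 ?_, fun g => ?_⟩
    · rw [← valAt_res h hx, ← valAt_res h hx, e]
    · obtain ⟨f, hf⟩ := (bijective_valAt (h hx)).2 (valAt x E hx g)
      exact ⟨f, (bijective_valAt hx).1 ((valAt_res h hx f).trans hf)⟩

variable {Y : Scheme.{u}} (f : X ⟶ Y)

/-- The direct image of the skyscraper. -/
abbrev pushSky : Y.Modules := (Scheme.Modules.pushforward f).obj (skyE x E)

lemma isSky_pushSky : IsSky (pushSky x E f) (f x) := (isSky_skyE x E).pushforward f

/-- The value of a germ of the direct image. -/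
def pushVal (e : (pushSky x E f).presheaf.stalk (f x)) : E :=
  valAt x E (U := f ⁻¹ᵁ ⊤) trivial
    (((isSky_pushSky x E f).bijective_germ (W := ⊤) trivial).2 e).choose

lemma pushVal_germ {W : Y.Opens} (hW : f x ∈ W) (s : Γ(pushSky x E f, W)) :
    pushVal x E f (germM (pushSky x E f) W (f x) hW s) = valAt x E (U := f ⁻¹ᵁ W) hW s := by
  let t := (((isSky_pushSky x E f).bijective_germ (W := ⊤) trivial).2
    (germM (pushSky x E f) W (f x) hW s)).choose
  have ht : germM (pushSky x E f) ⊤ (f x) trivial t = germM (pushSky x E f) W (f x) hW s :=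
    (((isSky_pushSky x E f).bijective_germ (W := ⊤) trivial).2 (germM (pushSky x E f) W (f x) hW s)).choose_spec
  have h : res (pushSky x E f) (le_top : W ≤ ⊤) t = s := by
    refine ((isSky_pushSky x E f).bijective_germ hW).1 ?_
    rw [germM_res]
    exact ht
  change valAt x E (U := f ⁻¹ᵁ ⊤) trivial t = _
  rw [← h, QCqs72.pushforward_res]
  exact (valAt_res (U := f ⁻¹ᵁ ⊤) (V := f ⁻¹ᵁ W) (fun z _ => trivial) hW t).symm

lemma pushVal_add (a b : (pushSky x E f).presheaf.stalk (f x)) :
    pushVal x E f (a + b) = pushVal x E f a + pushVal x E f b := by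
  obtain ⟨s, rfl⟩ := ((isSky_pushSky x E f).bijective_germ (W := ⊤) trivial).2 a
  obtain ⟨t, rfl⟩ := ((isSky_pushSky x E f).bijective_germ (W := ⊤) trivial).2 b
  rw [← germM_add, pushVal_germ, pushVal_germ, pushVal_germ]
  exact map_add _ _ _

lemma pushVal_smul (r : Y.presheaf.stalk (f x)) (a : (pushSky x E f).presheaf.stalk (f x)) :
    pushVal x E f (r • a) = (f.stalkMap x).hom r • pushVal x E f a := by
  obtain ⟨s, rfl⟩ := ((isSky_pushSky x E f).bijective_germ (W := ⊤) trivial).2 a
  obtain ⟨W, hW, r, rfl⟩ := TopCat.Presheaf.exists_germ_eq Y.presheaf r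
  rw [← germM_res (le_top : W ≤ ⊤) hW s, ← germM_smul, pushVal_germ, pushVal_germ, QCqs72.pushforward_smul,
    valAt_smul]
  exact congrArg (· • _) (Scheme.Hom.germ_stalkMap_apply f W x hW r).symm

lemma bijective_pushVal : Function.Bijective (pushVal x E f) := by
  refine ⟨fun a b h => ?_, fun e => ?_⟩
  · obtain ⟨s, rfl⟩ := ((isSky_pushSky x E f).bijective_germ (W := ⊤) trivial).2 a
    obtain ⟨t, rfl⟩ := ((isSky_pushSky x E f).bijective_germ (W := ⊤) trivial).2 b
    rw [pushVal_germ, pushVal_germ] at h
    rw [(bijective_valAt (U := f ⁻¹ᵁ ⊤) (show x ∈ f ⁻¹ᵁ (⊤ : Y.Opens) from trivial)).1 h]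
  · obtain ⟨s, hs⟩ := (bijective_valAt (U := f ⁻¹ᵁ ⊤) (show x ∈ f ⁻¹ᵁ (⊤ : Y.Opens) from trivial)).2 e
    exact ⟨germM (pushSky x E f) ⊤ (f x) trivial s, (pushVal_germ x E f _ s).trans hs⟩

/-- The stalk of the skyscraper. -/
def skyStalk : (skyE x E).presheaf.stalk x ≃ₗ[X.presheaf.stalk x] E :=
  LinearEquiv.symm <| LinearEquiv.ofBijective
    ({ toFun := fun e => germM (skyE x E) ⊤ x trivial (show SkyS x E ⊤ from fun _ _ => e)
       map_add' := fun a b => germM_add (M := skyE x E) _ _ _
       map_smul' := fun r e => by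
        obtain ⟨U, hx, a, rfl⟩ := TopCat.Presheaf.exists_germ_eq X.presheaf r
        rw [RingHom.id_apply, ← germM_res (le_top : U ≤ ⊤) hx, ← germM_res (le_top : U ≤ ⊤) hx, ← germM_smul]
        exact congrArg _ ((bijective_valAt hx).1 rfl) } : E →ₗ[X.presheaf.stalk x] _)
    ⟨fun a b h => congrArg (valAt x E (show x ∈ (⊤ : X.Opens) from trivial))
        (((isSky_skyE x E).bijective_germ (W := ⊤) trivial).1 h), fun e => by
      obtain ⟨s, rfl⟩ := ((isSky_skyE x E).bijective_germ (W := ⊤) trivial).2 e
      exact ⟨valAt x E (show x ∈ (⊤ : X.Opens) from trivial) s, congrArg (germM (skyE x E) ⊤ x trivial) ((bijective_valAt (show x ∈ (⊤ : X.Opens) from trivial)).1 rfl)⟩⟩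

section Mono

variable {A B : Y.Modules} (u : A ⟶ B)

/-- The inverse image of `u` is a monomorphism if `u` stays injective after tensoring with the local rings. -/
theorem mono_pullback_map
    (hu : ∀ x : X, letI := (f.stalkMap x).hom.toAlgebra
      Function.Injective ((stalkLinear u (f x)).rTensor (X.presheaf.stalk x))) :
    Mono ((Scheme.Modules.pullback f).map u) := by
  rw [FlatMor68.PullbackDescent.mono_iff]
  intro x
  refine (injective_iff_map_eq_zero (stalkLinear ((Scheme.Modules.pullback f).map u) x)).2 fun e he => ?_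
  by_contra hne
  obtain ⟨χ, hχ⟩ := CharacterModule.exists_character_apply_ne_zero_of_ne_zero hne
  letI algS := (f.stalkMap x).hom.toAlgebra
  let E := CharacterModule (X.presheaf.stalk x)
  let M := (Scheme.Modules.pullback f).obj A
  let ψ : M.presheaf.stalk x →ₗ[X.presheaf.stalk x] E :=
    CharacterModule.curry (χ.comp
      (TensorProduct.rid (X.presheaf.stalk x) (M.presheaf.stalk x)).toLinearMap.toAddMonoidHom)
  obtain ⟨g, hg⟩ := (isSky_skyE x E).exists_hom ((skyStalk x E).symm.toLinearMap ∘ₗ ψ)
  let gA : A ⟶ pushSky x E f := (Scheme.Modules.pullbackPushforwardAdjunction f).homEquiv _ _ g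
  let l : (pushSky x E f).presheaf.stalk (f x) →ₗ[Y.presheaf.stalk (f x)] E :=
    { toFun := pushVal x E f
      map_add' := pushVal_add x E f
      map_smul' := fun r a => (pushVal_smul x E f r a).trans rfl }
  let φ : A.presheaf.stalk (f x) →ₗ[Y.presheaf.stalk (f x)] E := l ∘ₗ stalkLinear gA (f x)
  obtain ⟨c, hc⟩ := CharacterModule.dual_surjective_of_injective _ (hu x) (CharacterModule.uncurry φ)
  let le := LinearEquiv.ofBijective l (bijective_pushVal x E f)
  obtain ⟨gB, hgB⟩ := (isSky_pushSky x E f).exists_hom (le.symm.toLinearMap ∘ₗ CharacterModule.curry c)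
  have hext : u ≫ gB = gA := by
    refine Scheme.Modules.hom_ext _ _ fun W => ?_
    ext s
    by_cases hW : f x ∈ W
    · refine ((isSky_pushSky x E f).bijective_germ hW).1 ?_
      change germM _ W (f x) hW (gB.app W (u.app W s)) = germM _ W (f x) hW (gA.app W s)
      rw [hgB, ← stalkMapM_germ, ← stalkMapM_germ]
      refine le.injective ((le.apply_symm_apply _).trans ?_)
      refine DFunLike.ext _ _ fun b => ?_
      exact DFunLike.congr_fun hc (germM A W (f x) hW s ⊗ₜ b)
    · exact ((isSky_pushSky x E f).subsingleton W hW).elim _ _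
  let g' := ((Scheme.Modules.pullbackPushforwardAdjunction f).homEquiv _ _).symm gB
  have hg' : (Scheme.Modules.pullback f).map u ≫ g' = g := by
    rw [← Adjunction.homEquiv_naturality_left_symm, hext, Equiv.symm_apply_apply]
  obtain ⟨W, hxW, s, rfl⟩ := germM_exist e
  have h1 : (skyStalk x E).symm (ψ (germM M W x hxW s)) = 0 := by
    refine (hg W hxW s).symm.trans ?_
    rw [← stalkMapM_germ g hxW s, ← hg', stalkMapM_comp]
    rw [show stalkMapM ((Scheme.Modules.pullback f).map u) x (germM M W x hxW s) = 0 from he]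
    exact map_zero (stalkLinear g' x)
  have h2 : ψ (germM M W x hxW s) (1 : X.presheaf.stalk x) = 0 := by
    rw [(skyStalk x E).symm.map_eq_zero_iff.1 h1]
    rfl
  refine hχ ?_
  refine Eq.trans ?_ h2
  change χ _ = χ ((1 : X.presheaf.stalk x) • _)
  rw [one_smul]

end Mono

end Groth.Agent.DCK91
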