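import Groth.Agent.DCK91.StalkTensorNat

/-!
The stalk criterion for K-flat complexes.
-/

set_option autoImplicit false
set_option linter.style.haveILetI false

noncomputable section

universe u

open CategoryTheory Limits AlgebraicGeometry MonoidalCategory

namespace Groth.Agent.DCK91

/-- Homology commutes with an exact functor. -/
lemma isZero_homology_map {A B : Type*} [Category* A] [Category* B] [Abelian A] [Abelian B] (F : A ⥤ B)
    [F.Additive] [F.PreservesHomology] (K : CochainComplex A ℤ) (i : ℤ) (h : IsZero (K.homology i)) :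
    IsZero (((F.mapHomologicalComplex (ComplexShape.up ℤ)).obj K).homology i) :=
  (F.map_isZero h).of_iso ((K.sc i).mapHomologyIso F)

variable {X : Scheme.{u}}

/-- The stalk complex. -/
abbrev SPc (x : X) : CochainComplex X.Modules ℤ ⥤ DRing.Cx (X.presheaf.stalk x) :=
  (SP x).mapHomologicalComplex (ComplexShape.up ℤ)

/-- The stalks of the skyscraper of a complex. -/
def skyCxStalk (x : X) (M : DRing.Cx (X.presheaf.stalk x)) :
    (SPc x).obj (((skyF x).mapHomologicalComplex (ComplexShape.up ℤ)).obj M) ≅ M :=
  HomologicalComplex.Hom.isoOfComponents (fun i => skyFStalk x (M.X i))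
    (fun i j _ => (skyFStalk_natural x (M.d i j)).symm)

theorem isKFlat_stalk {F : CochainComplex X.Modules ℤ} (hF : DCoh.IsKFlat F) (x : X) :
    DRing.IsKFlat (X.presheaf.stalk x) ((SPc x).obj F) := by
  intro M hM i
  obtain ⟨e⟩ := stalkTotIso x (((skyF x).mapHomologicalComplex (ComplexShape.up ℤ)).obj M) F
  have h := hF _ (fun j => isZero_homology_map (skyF x) M j (hM j)) i
  exact (isZero_homology_map (SP x) _ i h).of_iso
    ((HomologicalComplex.homologyFunctor _ _ i).mapIso ((tensorIso (skyCxStalk x M).symm (Iso.refl _)) ≪≫ e))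

theorem isKFlat_of_stalk (F : CochainComplex X.Modules ℤ)
    (hF : ∀ x : X, DRing.IsKFlat (X.presheaf.stalk x) ((SPc x).obj F)) : DCoh.IsKFlat F := by
  intro L hL i
  refine isZero_of_stalks fun x => ?_
  obtain ⟨e⟩ := stalkTotIso x L F
  exact (hF x ((SPc x).obj L) (fun j => isZero_homology_map (SP x) L j (hL j)) i).of_iso
    (((((DCoh.tensorCx.obj L).obj F).sc i).mapHomologyIso (SP x)).symm ≪≫
      (HomologicalComplex.homologyFunctor _ _ i).mapIso e.symm)

end Groth.Agent.DCK91
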