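import Groth.Agent.DCK91.PullStalk
import Groth.Agent.DCK91.Flat
import Groth.Prelude.Def_DerSch
import Groth.Prelude.Def_DCoh4

/-!
The stalk functor of `O_X`-modules: left adjoint of the skyscraper, exact, monoidal.
-/

set_option autoImplicit false
set_option backward.isDefEq.respectTransparency.types false
set_option linter.style.haveILetI false

noncomputable section

universe u

open CategoryTheory Limits AlgebraicGeometry TopologicalSpace Opposite MonoidalCategory TensorProduct
open Groth.Agent.QC70

namespace Groth.Agent.DCK91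

variable {X : Scheme.{u}} (x : X)

/-- The stalk functor. -/
abbrev SP : X.Modules ⥤ ModuleCat.{u} (X.presheaf.stalk x) := DerSch.stalkFunctor X x

lemma SP_map_apply {M N : X.Modules} (f : M ⟶ N) (e : M.presheaf.stalk x) :
    (SP x).map f e = stalkMapM f x e := by
  obtain ⟨U, hU, s, rfl⟩ := germM_exist e
  exact (DerSch.stalkFunctor_map_germ x f U hU s).trans (stalkMapM_germ f hU s).symm

/-- Linear maps out of the stalk are maps to the skyscraper. -/
def skyEquiv (M : X.Modules) (E : ModuleCat.{u} (X.presheaf.stalk x)) :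
    ((SP x).obj M ⟶ E) ≃ (M ⟶ skyE x E) where
  toFun ψ := ((isSky_skyE x E).exists_hom ((skyStalk x E).symm.toLinearMap ∘ₗ ψ.hom)).choose
  invFun g := ModuleCat.ofHom (X := ((SP x).obj M)) ((skyStalk x E).toLinearMap ∘ₗ stalkLinear g x)
  left_inv ψ := by
    refine ModuleCat.hom_ext (LinearMap.ext fun e => ?_)
    obtain ⟨U, hU, s, rfl⟩ := germM_exist (M := M) (x := x) e
    have h := ((isSky_skyE x E).exists_hom ((skyStalk x E).symm.toLinearMap ∘ₗ ψ.hom)).choose_spec U hU s
    change skyStalk x E (stalkMapM _ x (germM M U x hU s)) = _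
    rw [stalkMapM_germ, h]
    exact (skyStalk x E).apply_symm_apply _
  right_inv g := by
    refine Scheme.Modules.hom_ext _ _ fun W => ?_
    ext s
    by_cases hW : x ∈ W
    · refine ((isSky_skyE x E).bijective_germ hW).1 ?_
      refine (((isSky_skyE x E).exists_hom _).choose_spec W hW s).trans ?_
      change (skyStalk x E).symm (skyStalk x E (stalkMapM g x (germM M W x hW s))) = _
      rw [LinearEquiv.symm_apply_apply, stalkMapM_germ]
    · exact ((isSky_skyE x E).subsingleton W hW).elim _ _

lemma skyEquiv_natural (M' M : X.Modules) (E : ModuleCat.{u} (X.presheaf.stalk x)) (f : M' ⟶ M)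
    (g : (SP x).obj M ⟶ E) : skyEquiv x M' E ((SP x).map f ≫ g) = f ≫ skyEquiv x M E g := by
  apply (skyEquiv x M' E).symm.injective
  rw [Equiv.symm_apply_apply]
  refine ModuleCat.hom_ext (LinearMap.ext fun e => ?_)
  change g ((SP x).map f e) = skyStalk x E (stalkMapM (f ≫ _) x e)
  rw [stalkMapM_comp, SP_map_apply]
  exact LinearMap.congr_fun (congrArg ModuleCat.Hom.hom ((skyEquiv x M E).symm_apply_apply g).symm) _

/-- The skyscraper functor. -/
def skyF : ModuleCat.{u} (X.presheaf.stalk x) ⥤ X.Modules :=
  Adjunction.rightAdjointOfEquiv (F := SP x) (skyEquiv x) (skyEquiv_natural x)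

/-- The adjunction. -/
def skyAdj : SP x ⊣ skyF x := Adjunction.adjunctionOfEquivRight _ _

/-- The stalk of the skyscraper. -/
def skyFStalk (E : ModuleCat.{u} (X.presheaf.stalk x)) : (SP x).obj ((skyF x).obj E) ≅ E :=
  LinearEquiv.toModuleIso (skyStalk x E)

lemma skyFStalk_natural {E E' : ModuleCat.{u} (X.presheaf.stalk x)} (g : E ⟶ E') :
    (SP x).map ((skyF x).map g) ≫ (skyFStalk x E').hom = (skyFStalk x E).hom ≫ g := by
  have h : ∀ E, (skyFStalk x E).hom = (skyAdj x).counit.app E := fun E => by
    refine ModuleCat.hom_ext (LinearMap.ext fun e => ?_)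
    change skyStalk x E e = skyStalk x E (stalkMapM (𝟙 (skyE x E)) x e)
    obtain ⟨U, hU, s, rfl⟩ := germM_exist e
    exact (congrArg (skyStalk x E) (stalkMapM_germ (𝟙 (skyE x E)) hU s)).symm
  rw [h, h]
  exact (skyAdj x).counit.naturality g

/-- The stalks of the skyscraper. -/
def skyStalkNatIso : skyF x ⋙ SP x ≅ 𝟭 _ :=
  NatIso.ofComponents (skyFStalk x) fun g => skyFStalk_natural x g

instance : PreservesColimitsOfSize.{u, u} (SP x) := (skyAdj x).leftAdjoint_preservesColimits

instance : (SP x).PreservesMonomorphisms where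
  preserves {M N} f hf := by
    refine (ModuleCat.mono_iff_injective _).2 fun a b h => ?_
    rw [SP_map_apply, SP_map_apply] at h
    exact injective_stalkMapM_of_mono f x h

instance : (SP x).PreservesHomology := by
  have : PreservesColimitsOfSize.{0, 0} (SP x) := preservesColimitsOfSize_shrink.{0, u, 0, u} _
  exact Functor.preservesHomology_of_preservesMonos_and_cokernels _

instance : (skyF x).Additive := (skyAdj x).right_adjoint_additive

/-- The skyscraper of an injective map. -/
lemma isZero_of_stalks {M : X.Modules} (h : ∀ x : X, IsZero ((SP x).obj M)) : IsZero M := by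
  rw [IsZero.iff_id_eq_zero, FlatMor68.PullbackDescent.zero_iff]
  intro x z
  have := ModuleCat.subsingleton_of_isZero (h x)
  exact Subsingleton.elim (α := ((SP x).obj M)) _ _

/-- The skyscraper functor is exact. -/
instance : (skyF x).PreservesHomology := by
  have : PreservesLimitsOfSize.{u, u} (skyF x) := (skyAdj x).rightAdjoint_preservesLimits
  have : PreservesLimitsOfSize.{0, 0} (skyF x) := preservesLimitsOfSize_shrink.{0, u, 0, u} _
  have : (skyF x).PreservesEpimorphisms := ⟨fun {E E'} g hg => by
    rw [FlatMor68.PullbackDescent.epi_iff]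
    intro y e
    obtain ⟨W, hW, s, rfl⟩ := germM_exist e
    by_cases hx : x ∈ W
    · obtain ⟨v, hv⟩ := (ModuleCat.epi_iff_surjective _).1 hg
        (skyStalk x E' (germM (skyE x E') W x hx s))
      obtain ⟨t, ht⟩ := ((isSky_skyE x E).bijective_germ hx).2 ((skyStalk x E).symm v)
      refine ⟨germM ((skyF x).obj E) W y hW t, (stalkMapM_germ _ hW t).trans ?_⟩
      refine congrArg _ (((isSky_skyE x E').bijective_germ hx).1 ((skyStalk x E').injective ?_))
      refine (congrArg (skyStalk x E') (stalkMapM_germ ((skyF x).map g) hx t)).symm.trans ?_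
      refine Eq.trans ?_ hv
      rw [← (skyStalk x E).apply_symm_apply v, ← ht]
      rw [← SP_map_apply]
      exact LinearMap.congr_fun (congrArg ModuleCat.Hom.hom (skyFStalk_natural x g)) _
    · refine ⟨0, (map_zero (stalkLinear ((skyF x).map g) y)).trans ((germM_zero hW).symm.trans ?_)⟩
      exact congrArg (germM (skyE x E') W y hW) (((isSky_skyE x E').subsingleton W hx).elim _ _)⟩
  exact Functor.preservesHomology_of_preservesEpis_and_kernels _

end Groth.Agent.DCK91
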