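import Groth.Agent.DCK91.LeftDer

/-!
Functors agreeing with a left derived functor on adapted objects; composition of left derived functors.
-/

universe v₁ v₂ v₃ v₄ v₅ v₆ u₁ u₂ u₃ u₄ u₅ u₆

open CategoryTheory

namespace Groth.Agent.DCK91

variable {C : Type u₁} [Category.{v₁} C] {D : Type u₂} [Category.{v₂} D] {H : Type u₃} [Category.{v₃} H]
  (L : C ⥤ D) {W : MorphismProperty C} [L.IsLocalization W] {P : ObjectProperty C}

/-- A transformation which is invertible on adapted objects is invertible. -/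
lemma isIso_of_adapted (hP : HasRes W P) {G G' : D ⥤ H} (τ : G ⟶ G')
    (h : ∀ X, P X → IsIso (τ.app (L.obj X))) : IsIso τ := by
  rw [NatTrans.isIso_iff_isIso_app]
  intro Z
  obtain ⟨X, ⟨i⟩⟩ := (Localization.essSurj L W).mem_essImage Z
  obtain ⟨Q, q, hQ, hq⟩ := hP X
  exact (NatTrans.isIso_app_iff_of_iso τ (Localization.isoOfHom L W q hq ≪≫ i)).1 (h Q hQ)

/-- A functor agreeing with a left derived functor on adapted objects is isomorphic to it. -/
theorem exists_iso_of_adapted (hP : HasRes W P) {F : C ⥤ H} (G : D ⥤ H) (α : L ⋙ G ⟶ F)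
    (G' : D ⥤ H) (α' : L ⋙ G' ⟶ F) [G'.IsLeftDerivedFunctor α' W]
    (h : ∀ X, P X → IsIso (α.app X)) (h' : ∀ X, P X → IsIso (α'.app X)) :
    ∃ τ : G ≅ G', ∀ X, τ.hom.app (L.obj X) ≫ α'.app X = α.app X := by
  let τ := G'.leftDerivedLift α' W G α
  have hτ : ∀ X, τ.app (L.obj X) ≫ α'.app X = α.app X := fun X => G'.leftDerived_fac_app α' W G α X
  have : IsIso τ := isIso_of_adapted L hP τ fun X hX => by
    have := h X hX
    have := h' X hX
    have e : τ.app (L.obj X) = α.app X ≫ inv (α'.app X) := by rw [← hτ X]; simp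
    rw [e]
    infer_instance
  exact ⟨asIso τ, hτ⟩

variable {C₂ : Type u₄} [Category.{v₄} C₂] {C₃ : Type u₅} [Category.{v₅} C₃] {D₃ : Type u₆} [Category.{v₆} D₃]
  (L₂ : C₂ ⥤ H) (L₃ : C₃ ⥤ D₃)

/-- Composition of left derived functors, computed on adapted objects. -/
theorem nonempty_comp (hP : HasRes W P) {F : C ⥤ C₂} {G : C₂ ⥤ C₃} {K : C ⥤ C₃} (e : F ⋙ G ≅ K)
    (LF : D ⥤ H) (αF : L ⋙ LF ⟶ F ⋙ L₂) (LG : H ⥤ D₃) (αG : L₂ ⋙ LG ⟶ G ⋙ L₃)
    (LK : D ⥤ D₃) (αK : L ⋙ LK ⟶ K ⋙ L₃) [LK.IsLeftDerivedFunctor αK W]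
    (hF : ∀ X, P X → IsIso (αF.app X)) (hG : ∀ X, P X → IsIso (αG.app (F.obj X)))
    (hK : ∀ X, P X → IsIso (αK.app X)) : Nonempty (LF ⋙ LG ≅ LK) := by
  let α : L ⋙ LF ⋙ LG ⟶ K ⋙ L₃ :=
    { app := fun X => LG.map (αF.app X) ≫ αG.app (F.obj X) ≫ L₃.map (e.hom.app X)
      naturality := fun X Y f => by
        have h1 := αF.naturality f
        have h2 := αG.naturality (F.map f)
        dsimp at h1 h2 ⊢
        rw [← LG.map_comp_assoc, h1, LG.map_comp_assoc, reassoc_of% h2]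
        simp only [Category.assoc, ← L₃.map_comp]
        exact congrArg (fun t => LG.map (αF.app X) ≫ αG.app (F.obj X) ≫ L₃.map t) (e.hom.naturality f) }
  obtain ⟨τ, -⟩ := exists_iso_of_adapted L hP (LF ⋙ LG) α LK αK (fun X hX => by
    have := hF X hX
    have := hG X hX
    change IsIso (LG.map (αF.app X) ≫ αG.app (F.obj X) ≫ L₃.map (e.hom.app X))
    infer_instance) hK
  exact ⟨τ⟩

end Groth.Agent.DCK91
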