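import Mathlib.Algebra.Category.ModuleCat.Stalk
import Mathlib.Algebra.Category.ModuleCat.Presheaf.Monoidal
import Mathlib.RingTheory.Flat.Basic
import Mathlib.Algebra.Category.ModuleCat.Presheaf.EpiMono

/-!
Tensor products of presheaves of modules on a space and stalks.
-/

universe u

open CategoryTheory Opposite TopologicalSpace MonoidalCategory TensorProduct

namespace Groth.Agent.DCK91

noncomputable section

variable {X : TopCat.{u}} {R : X.Presheaf CommRingCat.{u}}
  (A M : PresheafOfModules.{u} (R ⋙ forget₂ CommRingCat RingCat))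

/-- The underlying presheaf of abelian groups. -/
abbrev pr : X.Presheaf AddCommGrpCat.{u} := A.presheaf

/-- The stalk. -/
abbrev St (x : X) : Type u := ↑(TopCat.Presheaf.stalk A.presheaf x)

/-- Restriction of sections. -/
def rs {U V : Opens X} (h : V ≤ U) : A.obj (op U) →+ A.obj (op V) :=
  ((pr A).map (homOfLE h).op).hom

/-- The germ map. -/
def gm (U : Opens X) (x : X) (hx : x ∈ U) : A.obj (op U) →+ St A x :=
  ((pr A).germ U x hx).hom

lemma gm_rs {U V : Opens X} (h : V ≤ U) (x : X) (hx : x ∈ V) (a : A.obj (op U)) :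
    gm A V x hx (rs A h a) = gm A U x (h hx) a :=
  (pr A).germ_res_apply (homOfLE h) x hx a

lemma rs_rs {U V W : Opens X} (h : V ≤ U) (h' : W ≤ V) (a : A.obj (op U)) :
    rs A h' (rs A h a) = rs A (h'.trans h) a :=
  (PresheafOfModules.map_comp_apply A (homOfLE h).op (homOfLE h').op a).symm

lemma exists_gm {x : X} (e : St A x) :
    ∃ (U : Opens X) (hx : x ∈ U) (a : A.obj (op U)), gm A U x hx a = e :=
  (pr A).exists_germ_eq e

lemma gm_eq {x : X} {U V : Opens X} (hU : x ∈ U) (hV : x ∈ V) (a : A.obj (op U)) (b : A.obj (op V))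
    (h : gm A U x hU a = gm A V x hV b) :
    ∃ (W : Opens X) (i : W ≤ U) (j : W ≤ V), x ∈ W ∧ rs A i a = rs A j b := by
  obtain ⟨W, hW, i, j, e⟩ := (pr A).germ_eq x hU hV a b h
  exact ⟨W, i.le, j.le, hW, e⟩

lemma gm_smul {x : X} {U : Opens X} (hx : x ∈ U) (r : R.obj (op U)) (a : A.obj (op U)) :
    gm A U x hx (r • a) = R.germ U x hx r • gm A U x hx a :=
  PresheafOfModules.germ_smul A x U hx r a

/-- `a ⊗ m` as a section of the presheaf tensor product. -/
def tm {U : Opens X} (a : A.obj (op U)) (m : M.obj (op U)) : (A ⊗ M).obj (op U) :=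
  a ⊗ₜ[R.obj (op U)] m

lemma rs_tm {U V : Opens X} (h : V ≤ U) (a : A.obj (op U)) (m : M.obj (op U)) :
    rs (A ⊗ M) h (tm A M a m) = tm A M (rs A h a) (rs M h m) := rfl

variable (x : X)

/-- `a_x ⊗ m_x ↦ (a ⊗ m)_x`, on chosen representatives. -/
def pairFun (e : St A x) (e' : St M x) : St (A ⊗ M) x :=
  gm (A ⊗ M) ((exists_gm A e).choose ⊓ (exists_gm M e').choose) x
    ⟨(exists_gm A e).choose_spec.choose, (exists_gm M e').choose_spec.choose⟩
    (tm A M (rs A inf_le_left (exists_gm A e).choose_spec.choose_spec.choose)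
      (rs M inf_le_right (exists_gm M e').choose_spec.choose_spec.choose))

lemma gm_tm_congr {U V U' V' : Opens X} (hU : x ∈ U) (hV : x ∈ V) (hU' : x ∈ U') (hV' : x ∈ V')
    (a : A.obj (op U)) (m : M.obj (op V)) (a' : A.obj (op U')) (m' : M.obj (op V'))
    (ha : gm A U x hU a = gm A U' x hU' a') (hm : gm M V x hV m = gm M V' x hV' m') :
    gm (A ⊗ M) (U ⊓ V) x ⟨hU, hV⟩ (tm A M (rs A inf_le_left a) (rs M inf_le_right m)) =
      gm (A ⊗ M) (U' ⊓ V') x ⟨hU', hV'⟩ (tm A M (rs A inf_le_left a') (rs M inf_le_right m')) := by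
  obtain ⟨VA, iA, jA, hVA, eA⟩ := gm_eq A hU hU' a a' ha
  obtain ⟨VM, iM, jM, hVM, eM⟩ := gm_eq M hV hV' m m' hm
  have hle : VA ⊓ VM ≤ U ⊓ V := inf_le_inf iA iM
  have hle' : VA ⊓ VM ≤ U' ⊓ V' := inf_le_inf jA jM
  have hW : x ∈ VA ⊓ VM := ⟨hVA, hVM⟩
  refine (gm_rs (A ⊗ M) hle x hW _).symm.trans (Eq.trans ?_ (gm_rs (A ⊗ M) hle' x hW _))
  rw [rs_tm, rs_tm, rs_rs, rs_rs, rs_rs, rs_rs]
  have h1 := congrArg (rs A (inf_le_left : VA ⊓ VM ≤ VA)) eA
  have h2 := congrArg (rs M (inf_le_right : VA ⊓ VM ≤ VM)) eM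
  rw [rs_rs, rs_rs] at h1 h2
  exact congrArg (gm (A ⊗ M) _ x hW) (congr (congrArg (tm A M) h1) h2)

lemma pairFun_germ {U : Opens X} (hx : x ∈ U) (a : A.obj (op U)) (m : M.obj (op U)) :
    pairFun A M x (gm A U x hx a) (gm M U x hx m) = gm (A ⊗ M) U x hx (tm A M a m) := by
  refine (gm_tm_congr A M x _ _ hx hx _ _ a m
    (exists_gm A (gm A U x hx a)).choose_spec.choose_spec.choose_spec
    (exists_gm M (gm M U x hx m)).choose_spec.choose_spec.choose_spec).trans ?_
  exact (congrArg (gm (A ⊗ M) _ x _) (rs_tm A M inf_le_left a m).symm).trans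
    (gm_rs (A ⊗ M) (inf_le_left : U ⊓ U ≤ U) x ⟨hx, hx⟩ (tm A M a m))

lemma exists_common (e : St A x) (e' : St M x) :
    ∃ (U : Opens X) (hx : x ∈ U) (a : A.obj (op U)) (m : M.obj (op U)),
      gm A U x hx a = e ∧ gm M U x hx m = e' := by
  obtain ⟨U, hU, a, rfl⟩ := exists_gm A e
  obtain ⟨V, hV, m, rfl⟩ := exists_gm M e'
  exact ⟨U ⊓ V, ⟨hU, hV⟩, rs A inf_le_left a, rs M inf_le_right m, gm_rs A _ x _ a, gm_rs M _ x _ m⟩

lemma pairFun_add_left (a b : St A x) (m : St M x) :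
    pairFun A M x (a + b) m = pairFun A M x a m + pairFun A M x b m := by
  obtain ⟨U, hU, a, m, rfl, rfl⟩ := exists_common A M x a m
  obtain ⟨V, hV, b, rfl⟩ := exists_gm A b
  have hW : x ∈ U ⊓ V := ⟨hU, hV⟩
  rw [← gm_rs A (inf_le_left : U ⊓ V ≤ U) x hW a, ← gm_rs M (inf_le_left : U ⊓ V ≤ U) x hW m,
    ← gm_rs A (inf_le_right : U ⊓ V ≤ V) x hW b, ← map_add, pairFun_germ, pairFun_germ, pairFun_germ,
    ← map_add]
  exact congrArg (gm (A ⊗ M) _ x _) (TensorProduct.add_tmul _ _ _)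

lemma pairFun_add_right (a : St A x) (m n : St M x) :
    pairFun A M x a (m + n) = pairFun A M x a m + pairFun A M x a n := by
  obtain ⟨U, hU, a, m, rfl, rfl⟩ := exists_common A M x a m
  obtain ⟨V, hV, n, rfl⟩ := exists_gm M n
  have hW : x ∈ U ⊓ V := ⟨hU, hV⟩
  rw [← gm_rs A (inf_le_left : U ⊓ V ≤ U) x hW a, ← gm_rs M (inf_le_left : U ⊓ V ≤ U) x hW m,
    ← gm_rs M (inf_le_right : U ⊓ V ≤ V) x hW n, ← map_add, pairFun_germ, pairFun_germ, pairFun_germ,
    ← map_add]
  exact congrArg (gm (A ⊗ M) _ x _) (TensorProduct.tmul_add _ _ _)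

lemma pairFun_smul (r : R.stalk x) (a : St A x) (m : St M x) :
    pairFun A M x (r • a) m = pairFun A M x a (r • m) := by
  obtain ⟨U, hU, a, m, rfl, rfl⟩ := exists_common A M x a m
  obtain ⟨V, hV, r, rfl⟩ := R.exists_germ_eq r
  have hW : x ∈ U ⊓ V := ⟨hU, hV⟩
  rw [← gm_rs A (inf_le_left : U ⊓ V ≤ U) x hW a, ← gm_rs M (inf_le_left : U ⊓ V ≤ U) x hW m,
    ← R.germ_res_apply (homOfLE (inf_le_right : U ⊓ V ≤ V)) x hW r, ← gm_smul, ← gm_smul,
    pairFun_germ, pairFun_germ]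
  exact congrArg (gm (A ⊗ M) _ x _) (TensorProduct.smul_tmul (R := R.obj (op (U ⊓ V))) _ _ _)

/-- The comparison `A_x ⊗ M_x → (A ⊗ M)_x`. -/
def theta : St A x ⊗[R.stalk x] St M x →+ St (A ⊗ M) x :=
  TensorProduct.liftAddHom
    (AddMonoidHom.mk' (fun a => AddMonoidHom.mk' (pairFun A M x a) (pairFun_add_right A M x a))
      (fun a b => AddMonoidHom.ext (pairFun_add_left A M x a b)))
    (fun r a m => pairFun_smul A M x r a m)

/-- The section `a ⊗ m` to `a_x ⊗ m_x`. -/
def toStalks (U : Opens X) (hx : x ∈ U) :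
    A.obj (op U) ⊗[R.obj (op U)] M.obj (op U) →+ St A x ⊗[R.stalk x] St M x :=
  TensorProduct.liftAddHom
    (AddMonoidHom.mk' (fun a => AddMonoidHom.mk' (fun m => gm A U x hx a ⊗ₜ gm M U x hx m)
      (fun m n => by rw [map_add, TensorProduct.tmul_add]))
      (fun a b => AddMonoidHom.ext fun m => by
        change gm A U x hx (a + b) ⊗ₜ _ = gm A U x hx a ⊗ₜ _ + gm A U x hx b ⊗ₜ _
        rw [map_add, TensorProduct.add_tmul]))
    (fun r a m => by
      change gm A U x hx (r • a) ⊗ₜ gm M U x hx m = gm A U x hx a ⊗ₜ gm M U x hx (r • m)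
      rw [gm_smul, gm_smul]
      exact TensorProduct.smul_tmul _ _ _)

lemma theta_toStalks (U : Opens X) (hx : x ∈ U) (z : (A ⊗ M).obj (op U)) :
    theta A M x (toStalks A M x U hx z) = gm (A ⊗ M) U x hx z := by
  induction z using TensorProduct.induction_on with
  | zero =>
    erw [map_zero, map_zero]
  | tmul a m => exact pairFun_germ A M x hx a m
  | add a b ha hb =>
    erw [map_add, map_add]
    rw [ha, hb]
    exact (map_add _ _ _).symm

variable {A M} {B : PresheafOfModules.{u} (R ⋙ forget₂ CommRingCat RingCat)} (f : A ⟶ B)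

/-- The stalk map. -/
def stalkAdd : St A x →+ St B x :=
  ((TopCat.Presheaf.stalkFunctor AddCommGrpCat x).map ((PresheafOfModules.toPresheaf _).map f)).hom

lemma stalkAdd_gm {U : Opens X} (hx : x ∈ U) (a : A.obj (op U)) :
    stalkAdd x f (gm A U x hx a) = gm B U x hx (f.app (op U) a) :=
  TopCat.Presheaf.stalkFunctor_map_germ_apply (F := pr A) (G := pr B) U x hx
    ((PresheafOfModules.toPresheaf _).map f) a

/-- The stalk map, linear over the stalk of the rings. -/
def stalkHom : St A x →ₗ[R.stalk x] St B x where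
  toFun := stalkAdd x f
  map_add' := map_add _
  map_smul' r e := by
    obtain ⟨U, hU, a, rfl⟩ := exists_gm A e
    obtain ⟨V, hV, r, rfl⟩ := R.exists_germ_eq r
    have hW : x ∈ U ⊓ V := ⟨hU, hV⟩
    rw [RingHom.id_apply, ← gm_rs A (inf_le_left : U ⊓ V ≤ U) x hW a,
      ← R.germ_res_apply (homOfLE (inf_le_right : U ⊓ V ≤ V)) x hW r, ← gm_smul, stalkAdd_gm, stalkAdd_gm,
      ← gm_smul]
    exact congrArg _ ((f.app _).hom.map_smul _ _)

lemma stalkHom_gm {U : Opens X} (hx : x ∈ U) (a : A.obj (op U)) :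
    stalkHom x f (gm A U x hx a) = gm B U x hx (f.app (op U) a) := stalkAdd_gm x f hx a

lemma app_rs {U V : Opens X} (h : V ≤ U) (a : A.obj (op U)) :
    f.app (op V) (rs A h a) = rs B h (f.app (op U) a) :=
  PresheafOfModules.naturality_apply f (homOfLE h).op a

lemma injective_stalkHom [Mono f] : Function.Injective (stalkHom x f) := by
  refine (injective_iff_map_eq_zero _).2 fun e he => ?_
  obtain ⟨U, hU, a, rfl⟩ := exists_gm A e
  rw [stalkHom_gm, ← map_zero (gm B U x hU)] at he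
  obtain ⟨W, i, j, hW, h⟩ := gm_eq B hU hU _ _ he
  rw [map_zero, ← app_rs] at h
  rw [← gm_rs A i x hW a,
    PresheafOfModules.injective_of_mono f (op W) (h.trans (map_zero (f.app (op W)).hom).symm), map_zero]

variable (M)

lemma toStalks_whiskerRight (U : Opens X) (hx : x ∈ U) (z : (A ⊗ M).obj (op U)) :
    (stalkHom x f).rTensor _ (toStalks A M x U hx z) = toStalks B M x U hx ((f ▷ M).app (op U) z) := by
  induction z using TensorProduct.induction_on with
  | zero =>
    erw [map_zero]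
  | tmul a m =>
    change stalkHom x f (gm A U x hx a) ⊗ₜ gm M U x hx m = gm B U x hx (f.app (op U) a) ⊗ₜ gm M U x hx m
    rw [stalkHom_gm]
  | add a b ha hb =>
    erw [map_add, map_add, map_add, map_add]
    rw [ha, hb]

/-- A section of `A ⊗ M` killed by `f ⊗ M` vanishes near a point where `M` is flat. -/
lemma exists_rs_eq_zero [Mono f] {U : Opens X} (hx : x ∈ U)
    (hM : Module.Flat (R.stalk x) (St M x)) (z : (A ⊗ M).obj (op U))
    (hz : (f ▷ M).app (op U) z = 0) :
    ∃ (V : Opens X) (hV : V ≤ U), x ∈ V ∧ rs (A ⊗ M) hV z = 0 := by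
  have h0 : toStalks A M x U hx z = 0 := by
    refine Module.Flat.rTensor_preserves_injective_linearMap (M := St M x) (stalkHom x f)
      (injective_stalkHom x f) ?_
    rw [toStalks_whiskerRight, hz]
    exact (map_zero _).trans (map_zero _).symm
  obtain ⟨V, i, j, hV, h⟩ := gm_eq (A ⊗ M) hx hx z 0
    ((theta_toStalks A M x U hx z).symm.trans (by rw [h0, map_zero, map_zero]))
  exact ⟨V, i, hV, h.trans (map_zero _)⟩

end

end Groth.Agent.DCK91
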