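import Groth.Agent.DCK91.StalkTensor
import Mathlib.RingTheory.Flat.Basic
import Mathlib.RingTheory.Flat.Tensor

/-!
The stalk of a tensor product is the tensor product of the stalks; the ideal presheaf of finitely many sections.
-/

universe u

open CategoryTheory Opposite TopologicalSpace MonoidalCategory TensorProduct

namespace Groth.Agent.DCK91

noncomputable section

variable {X : TopCat.{u}} {R : X.Presheaf CommRingCat.{u}}

lemma top_mem (x : X) : x ∈ (⊤ : Opens X) := trivial

section

variable (A M : PresheafOfModules.{u} (R ⋙ forget₂ CommRingCat RingCat)) (x : X)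

lemma toStalks_rs {U V : Opens X} (h : V ≤ U) (hx : x ∈ V) (z : (A ⊗ M).obj (op U)) :
    toStalks A M x V hx (rs (A ⊗ M) h z) = toStalks A M x U (h hx) z := by
  induction z using TensorProduct.induction_on with
  | zero => erw [map_zero]
  | tmul a m =>
    change gm A V x hx (rs A h a) ⊗ₜ gm M V x hx (rs M h m) = gm A U x (h hx) a ⊗ₜ gm M U x (h hx) m
    rw [gm_rs, gm_rs]
  | add a b ha hb =>
    erw [map_add, map_add, map_add]
    rw [ha, hb]

/-- The inverse comparison, on chosen representatives. -/
def chi (e : St (A ⊗ M) x) : St A x ⊗[R.stalk x] St M x :=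
  toStalks A M x (exists_gm (A ⊗ M) e).choose (exists_gm (A ⊗ M) e).choose_spec.choose
    (exists_gm (A ⊗ M) e).choose_spec.choose_spec.choose

lemma chi_gm {U : Opens X} (hx : x ∈ U) (z : (A ⊗ M).obj (op U)) :
    chi A M x (gm (A ⊗ M) U x hx z) = toStalks A M x U hx z := by
  obtain ⟨W, i, j, hW, h⟩ := gm_eq (A ⊗ M) _ hx _ z
    (exists_gm (A ⊗ M) (gm (A ⊗ M) U x hx z)).choose_spec.choose_spec.choose_spec
  exact (toStalks_rs A M x i hW _).symm.trans ((congrArg _ h).trans (toStalks_rs A M x j hW z))

lemma chi_theta (e : St A x ⊗[R.stalk x] St M x) : chi A M x (theta A M x e) = e := by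
  induction e using TensorProduct.induction_on with
  | zero =>
    rw [map_zero, ← map_zero (gm (A ⊗ M) ⊤ x (top_mem x)), chi_gm]
    exact map_zero _
  | tmul a m =>
    obtain ⟨U, hx, a, m, rfl, rfl⟩ := exists_common A M x a m
    change chi A M x (pairFun A M x _ _) = _
    rw [pairFun_germ, chi_gm]
    rfl
  | add a b ha hb =>
    obtain ⟨U, hU, z, hz⟩ := exists_gm (A ⊗ M) (theta A M x a)
    obtain ⟨V, hV, w, hw⟩ := exists_gm (A ⊗ M) (theta A M x b)
    have hW : x ∈ U ⊓ V := ⟨hU, hV⟩
    rw [← hz] at ha; rw [← hw] at hb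
    rw [map_add, ← hz, ← hw, ← gm_rs (A ⊗ M) (inf_le_left : U ⊓ V ≤ U) x hW z,
      ← gm_rs (A ⊗ M) (inf_le_right : U ⊓ V ≤ V) x hW w, ← map_add, chi_gm]
    refine (map_add _ _ _).trans ?_
    rw [toStalks_rs, toStalks_rs, ← chi_gm, ← chi_gm, ha, hb]

lemma injective_theta : Function.Injective (theta A M x) :=
  Function.LeftInverse.injective (chi_theta A M x)

variable {A} {B : PresheafOfModules.{u} (R ⋙ forget₂ CommRingCat RingCat)} (f : A ⟶ B)

lemma stalkHom_theta (e : St A x ⊗[R.stalk x] St M x) :
    stalkHom x (f ▷ M) (theta A M x e) = theta B M x ((stalkHom x f).rTensor _ e) := by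
  induction e using TensorProduct.induction_on with
  | zero => rw [map_zero, map_zero, map_zero, map_zero]
  | tmul a m =>
    obtain ⟨U, hx, a, m, rfl, rfl⟩ := exists_common A M x a m
    change stalkHom x (f ▷ M) (pairFun A M x _ _) = pairFun B M x (stalkHom x f (gm A U x hx a)) (gm M U x hx m)
    rw [pairFun_germ, stalkHom_gm, stalkHom_gm, pairFun_germ]
    rfl
  | add a b ha hb => rw [map_add, map_add, map_add, map_add, ha, hb]

lemma injective_rTensor_stalkHom (h : Function.Injective (stalkHom x (f ▷ M))) :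
    Function.Injective ((stalkHom x f).rTensor (St M x)) := fun a b e =>
  injective_theta A M x (h (by rw [stalkHom_theta, stalkHom_theta, e]))

end

section Ideal

variable (R)

/-- The structure presheaf as a module over itself. -/
abbrev unitP : PresheafOfModules.{u} (R ⋙ forget₂ CommRingCat RingCat) :=
  PresheafOfModules.unit _

variable (U : Opens X) {n : ℕ} (a : Fin n → R.obj (op U))

/-- The ideal generated by the `a i` over an open contained in `U`, zero elsewhere. -/
def idealAt (V : (Opens X)ᵒᵖ) : Ideal (R.obj V) :=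
  ⨆ h : V.unop ≤ U, Ideal.span (Set.range fun i => R.map (homOfLE h).op (a i))

lemma idealAt_map {V W : (Opens X)ᵒᵖ} (g : V ⟶ W) (r : R.obj V) (hr : r ∈ idealAt R U a V) :
    R.map g r ∈ idealAt R U a W := by
  suffices idealAt R U a V ≤ (idealAt R U a W).comap (R.map g).hom from this hr
  refine iSup_le fun h => Ideal.span_le.2 ?_
  rintro _ ⟨i, rfl⟩
  refine Submodule.mem_iSup_of_mem (g.unop.le.trans h) (Ideal.subset_span ⟨i, ?_⟩)
  change R.map (homOfLE (g.unop.le.trans h)).op (a i) = (R.map (homOfLE h).op ≫ R.map g) (a i)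
  rw [← Functor.map_comp]
  exact congrArg (fun t => R.map t (a i)) (Subsingleton.elim _ _)

/-- The presheaf of ideals `idealAt`. -/
def idealP : PresheafOfModules.{u} (R ⋙ forget₂ CommRingCat RingCat) where
  obj V := ModuleCat.of _ (idealAt R U a V)
  map {V W} g := ModuleCat.ofHom
    (Y := (ModuleCat.restrictScalars ((R ⋙ forget₂ CommRingCat RingCat).map g).hom).obj
      (ModuleCat.of _ (idealAt R U a W)))
    { toFun := fun r => ⟨R.map g r.1, idealAt_map R U a g r.1 r.2⟩
      map_add' := fun r s => Subtype.ext (map_add (R.map g).hom _ _)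
      map_smul' := fun c r => Subtype.ext (map_mul (R.map g).hom c r.1) }
  map_id V := ModuleCat.hom_ext (LinearMap.ext fun r => Subtype.ext congr($(R.map_id V) r.1))
  map_comp g h := ModuleCat.hom_ext (LinearMap.ext fun r => Subtype.ext congr($(R.map_comp g h) r.1))

/-- The inclusion of `idealP`. -/
def idealι : idealP R U a ⟶ unitP R where
  app V := ModuleCat.ofHom (idealAt R U a V).subtype
  naturality _ := rfl

instance : Mono (idealι R U a) := PresheafOfModules.mono_of_injective fun _ => Subtype.val_injective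

/-- The section `1`. -/
def one : (unitP R).obj (op (⊤ : Opens X)) := (1 : R.obj (op ⊤))

/-- The identification of the stalk of the structure presheaf with the local ring. -/
def unitStalk (x : X) : R.stalk x →ₗ[R.stalk x] St (unitP R) x :=
  LinearMap.toSpanSingleton _ _ (gm (unitP R) ⊤ x (top_mem x) (one R))

lemma unitStalk_germ {x : X} {V : Opens X} (hx : x ∈ V) (r : R.obj (op V)) :
    unitStalk R x (R.germ V x hx r) = gm (unitP R) V x hx r := by
  change R.germ V x hx r • gm (unitP R) ⊤ x (top_mem x) (one R) = _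
  rw [← gm_rs (unitP R) (le_top : V ≤ ⊤) x hx, ← gm_smul]
  refine congrArg _ ?_
  change r * R.map (homOfLE (le_top : V ≤ ⊤)).op 1 = r
  rw [map_one, mul_one]

lemma bijective_unitStalk (x : X) : Function.Bijective (unitStalk R x) := by
  refine ⟨(injective_iff_map_eq_zero _).2 fun r hr => ?_, fun e => ?_⟩
  · obtain ⟨V, hV, r, rfl⟩ := R.exists_germ_eq r
    rw [unitStalk_germ] at hr
    obtain ⟨W, i, j, hW, h⟩ := gm_eq (unitP R) hV hV r 0 (hr.trans (map_zero _).symm)
    rw [← R.germ_res_apply (homOfLE i) x hW r, show R.map (homOfLE i).op r = 0 from h.trans (map_zero _),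
      map_zero]
  · obtain ⟨V, hV, r, rfl⟩ := exists_gm (unitP R) e
    exact ⟨R.germ V x hV r, unitStalk_germ R hV r⟩

lemma range_stalkHom_idealι {x : X} (hx : x ∈ U) :
    LinearMap.range (stalkHom x (idealι R U a)) =
      Submodule.map (unitStalk R x) (Ideal.span (Set.range fun i => R.germ U x hx (a i))) := by
  apply le_antisymm
  · rintro _ ⟨e, rfl⟩
    obtain ⟨V, hV, r, rfl⟩ := exists_gm (idealP R U a) e
    rw [stalkHom_gm]
    refine ⟨R.germ V x hV r.1, ?_, unitStalk_germ R hV r.1⟩
    suffices idealAt R U a (op V) ≤ (Ideal.span (Set.range fun i => R.germ U x hx (a i))).comap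
        (R.germ V x hV).hom from this r.2
    refine iSup_le fun h => Ideal.span_le.2 ?_
    rintro _ ⟨i, rfl⟩
    exact Ideal.subset_span ⟨i, (R.germ_res_apply (homOfLE h) x hV (a i)).symm⟩
  · rw [Ideal.span, Submodule.map_span, Submodule.span_le]
    rintro _ ⟨_, ⟨i, rfl⟩, rfl⟩
    have hmem : a i ∈ idealAt R U a (op U) :=
      Submodule.mem_iSup_of_mem le_rfl (Ideal.subset_span ⟨i, congr($(R.map_id (op U)) (a i))⟩)
    refine ⟨gm (idealP R U a) U x hx (⟨a i, hmem⟩ : idealAt R U a (op U)), ?_⟩
    exact (stalkHom_gm x (idealι R U a) hx (⟨a i, hmem⟩ : idealAt R U a (op U))).trans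
      (unitStalk_germ R hx (a i)).symm

end Ideal

/-- A criterion for flatness of the stalk. -/
theorem flat_stalk_of_ideals (M : PresheafOfModules.{u} (R ⋙ forget₂ CommRingCat RingCat)) (x : X)
    (h : ∀ (U : Opens X) (_ : x ∈ U) (n : ℕ) (a : Fin n → R.obj (op U)),
      Function.Injective (stalkHom x (idealι R U a ▷ M))) :
    Module.Flat (R.stalk x) (St M x) := by
  refine Module.Flat.iff_rTensor_injective.2 fun I hI => ?_
  obtain ⟨n, g, hg⟩ := Submodule.fg_iff_exists_fin_generating_family.1 hI
  choose V hV b hb using fun i => R.exists_germ_eq (g i)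
  obtain ⟨U, hx, hU⟩ : ∃ U : Opens X, x ∈ U ∧ ∀ i, U ≤ V i :=
    ⟨⟨⋂ i, (V i : Set X), isOpen_iInter_of_finite fun i => (V i).2⟩, Set.mem_iInter.2 hV,
      fun i => Set.iInter_subset _ i⟩
  let a : Fin n → R.obj (op U) := fun i => R.map (homOfLE (hU i)).op (b i)
  have ha : Ideal.span (Set.range fun i => R.germ U x hx (a i)) = I := by
    refine Eq.trans ?_ hg
    exact congrArg Ideal.span (congrArg Set.range
      (funext fun i => (R.germ_res_apply (homOfLE (hU i)) x hx (b i)).trans (hb i)))
  let e := LinearEquiv.ofBijective (unitStalk R x) (bijective_unitStalk R x)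
  let φ := e.symm.toLinearMap ∘ₗ stalkHom x (idealι R U a)
  have hφ : Function.Injective φ := e.symm.injective.comp (injective_stalkHom x _)
  have hr : LinearMap.range φ = I := by
    rw [LinearMap.range_comp, range_stalkHom_idealι R U a hx, ha]
    refine (Submodule.map_comp _ _ _).symm.trans ?_
    rw [show e.symm.toLinearMap ∘ₗ unitStalk R x = LinearMap.id from LinearMap.ext fun r => e.symm_apply_apply r]
    exact Submodule.map_id I
  let ψ := (LinearEquiv.ofInjective φ hφ).trans (LinearEquiv.ofEq _ _ hr)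
  have hinj : Function.Injective (φ.rTensor (St M x)) := by
    rw [LinearMap.rTensor_comp, LinearMap.coe_comp]
    exact (LinearEquiv.rTensor (St M x) e.symm).injective.comp
      (injective_rTensor_stalkHom M x _ (h U hx n a))
  have hI' : (I.subtype).rTensor (St M x) = φ.rTensor (St M x) ∘ₗ ψ.symm.toLinearMap.rTensor (St M x) := by
    rw [← LinearMap.rTensor_comp]
    congr 1
    ext i
    obtain ⟨k, rfl⟩ := ψ.surjective i
    simp
    rfl
  rw [hI', LinearMap.coe_comp]
  exact hinj.comp (LinearEquiv.rTensor (St M x) ψ.symm).injective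

end

end Groth.Agent.DCK91
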